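import Groth.Agent.Lib.GrpNeutral20.Cons
import Groth.Agent.Lib.GrpField.Smooth
import Groth.Agent.Lib.LftDesc20.Group
import Groth.Agent.Lib.AlgSpDescent.FppfComp
import Groth.Agent.Lib.AbRigid.SmoothGI
import Groth.Agent.Lib.SubGrp13.Basic
import Groth.Agent.Lib.GrpAtPt20.Props
import Groth.Agent.Lib.Nis27.ConstrCompact
import Groth.Agent.S1327

/-!
# The neutral components of a group smooth along the unit section
-/

universe u

open CategoryTheory Limits MonoidalCategory CartesianMonoidalCategory AlgebraicGeometry Topology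
open scoped MonObj GrpObj

set_option linter.style.haveILetI false
set_option backward.isDefEq.respectTransparency false

namespace Groth.Agent.GrpNeutral20

variable {S : Scheme.{u}} (G : Over S) [GrpObj G] (U₁ : G.left.Opens) [Smooth (U₁.ι ≫ G.hom)]
  (hU₁ : ∀ s : S, η[G].left s ∈ U₁)

include hU₁ in
theorem smooth_fibre (s : S) : Smooth (G.hom.fiberToSpecResidueField s) := by
  let F := Over.pullback (S.fromSpecResidueField s)
  letI : GrpObj (F.obj G) := Functor.grpObjObj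
  let r := pullback.fst G.hom (S.fromSpecResidueField s)
  let W : (F.obj G).left.Opens := r ⁻¹ᵁ U₁
  obtain ⟨z, hz⟩ : η[G].left s ∈ Set.range (G.hom.fiberι s) := by
    rw [Scheme.Hom.range_fiberι]; exact unit_over G s
  have hzW : z ∈ W := by show G.hom.fiberι s z ∈ U₁; rw [hz]; exact hU₁ s
  haveI hW : Smooth (W.ι ≫ (F.obj G).hom) :=
    MorphismProperty.of_isPullback ((isPullback_morphismRestrict r U₁).paste_vert
      (IsPullback.of_hasPullback G.hom (S.fromSpecResidueField s))) ‹Smooth (U₁.ι ≫ G.hom)›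
  obtain ⟨A, hA, hzA, hAW⟩ := exists_isAffineOpen_mem_and_subset (X := (F.obj G).left) (x := z) (U := W) hzW
  haveI : IsAffine A.toScheme := hA
  haveI : LocallyOfFiniteType (A.ι ≫ (F.obj G).hom) := by
    rw [← (F.obj G).left.homOfLE_ι hAW, Category.assoc]; infer_instance
  haveI : QuasiCompact (A.ι ≫ (F.obj G).hom) := quasiCompact_of_compactSpace _
  haveI : IsArtinianRing (S.residueField s) := inferInstance
  haveI := LftDesc20.lft_of_open_artinian (S.residueField s) (F.obj G) A ⟨z, hzA⟩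
  exact GrpField.smooth_of_smooth_open (F.obj G) W ⟨z, hzW⟩

include hU₁ in
theorem lft_fibres' (s : S) : LocallyOfFiniteType (G.hom.fiberToSpecResidueField s) := by
  haveI := smooth_fibre G U₁ hU₁ s
  infer_instance

include hU₁ in
/-- Around every point of the base an affine chart of the unit section in which the neutral components are open. -/
theorem exists_smooth_chart (s : S) :
    ∃ (V : S.Opens) (O : G.left.Opens) (U : G.left.Opens), s ∈ V ∧ IsAffineOpen V ∧ IsAffineOpen U ∧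
      U ≤ U₁ ∧ U ≤ G.hom ⁻¹ᵁ V ∧ (∀ v ∈ V, η[G].left v ∈ U) ∧ (O : Set G.left) = (U : Set G.left) ∩ SGA3x.neutralSet G ∧
      IsCompact (O : Set G.left) := by
  have hG := lft_fibres' G U₁ hU₁
  obtain ⟨V₀, hV₀, hsV₀, -⟩ := exists_isAffineOpen_mem_and_subset (X := S) (x := s) (U := ⊤) trivial
  obtain ⟨U₀, hU₀, hsU₀, hUV₀'⟩ := exists_isAffineOpen_mem_and_subset (X := G.left) (x := η[G].left s)
    (U := G.hom ⁻¹ᵁ V₀ ⊓ U₁) ⟨(show G.hom (η[G].left s) ∈ V₀ by rw [unit_over]; exact hsV₀), hU₁ s⟩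
  have hUV₀ : U₀ ≤ G.hom ⁻¹ᵁ V₀ := fun x hx => (hUV₀' hx).1
  let V' : S.Opens := ⟨η[G].left ⁻¹' (U₀ : Set G.left) ∩ (V₀ : Set S), (U₀.2.preimage η[G].left.continuous).inter V₀.2⟩
  obtain ⟨V, hV, hsV, hVV'⟩ := exists_isAffineOpen_mem_and_subset (X := S) (x := s) (U := V') ⟨hsU₀, hsV₀⟩
  let f₀ := G.hom.resLE V₀ U₀ hUV₀
  haveI : IsAffine U₀.toScheme := hU₀
  haveI : IsAffine V₀.toScheme := hV₀
  let U : G.left.Opens := U₀.ι ''ᵁ (f₀ ⁻¹ᵁ (V₀.ι ⁻¹ᵁ V))
  have hU : IsAffineOpen U := ((hV.preimage_of_isOpenImmersion V₀.ι (by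
    rw [Scheme.Opens.opensRange_ι]; exact fun v hv => (hVV' hv).2)).preimage f₀).image_of_isOpenImmersion U₀.ι
  have hmemU : ∀ x, x ∈ U ↔ x ∈ U₀ ∧ G.hom x ∈ V := fun x => by
    have e : ∀ w, V₀.ι (f₀ w) = G.hom (U₀.ι w) := fun w => by
      rw [← Scheme.Hom.comp_apply, ← Scheme.Hom.comp_apply, Scheme.Hom.resLE_comp_ι]
    constructor
    · rintro ⟨w, hw, rfl⟩
      exact ⟨w.2, (e w) ▸ hw⟩
    · exact fun ⟨h1, h2⟩ => ⟨⟨x, h1⟩, show V₀.ι (f₀ ⟨x, h1⟩) ∈ V from (e ⟨x, h1⟩).symm ▸ h2, rfl⟩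
  have hUV : U ≤ G.hom ⁻¹ᵁ V := fun x hx => ((hmemU x).1 hx).2
  have hUU₁ : U ≤ U₁ := fun x hx => (hUV₀' ((hmemU x).1 hx).1).2
  haveI : IsAffine U.toScheme := hU
  haveI : IsAffine V.toScheme := hV
  let f := G.hom.resLE V U hUV
  haveI : Smooth f := by
    haveI : Smooth (U.ι ≫ G.hom) := by rw [← G.left.homOfLE_ι hUU₁, Category.assoc]; infer_instance
    haveI : Smooth (f ≫ V.ι) := by rw [Scheme.Hom.resLE_comp_ι]; infer_instance
    have sqm := (IsPullback.of_horiz_isIso (fst := 𝟙 U.toScheme) (snd := f) (f := f) (g := 𝟙 _)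
      ⟨by simp⟩).paste_vert (IsKernelPair.id_of_mono V.ι)
    rw [Category.comp_id] at sqm
    exact MorphismProperty.of_isPullback (P := @Smooth) sqm ‹Smooth (f ≫ V.ι)›
  have hηU : ∀ v ∈ V, η[G].left v ∈ U := fun v hv =>
    (hmemU _).2 ⟨(hVV' hv).1, by rw [unit_over]; exact hv⟩
  let σ : V.toScheme ⟶ U.toScheme := IsOpenImmersion.lift U.ι (V.ι ≫ η[G].left) (by
    rintro _ ⟨p, rfl⟩
    rw [Scheme.Opens.range_ι, Scheme.Hom.comp_apply]
    exact hηU _ p.2)
  have hσι : σ ≫ U.ι = V.ι ≫ η[G].left := IsOpenImmersion.lift_fac _ _ _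
  have hσ : σ ≫ f = 𝟙 _ := by
    rw [← cancel_mono V.ι, Category.assoc, Scheme.Hom.resLE_comp_ι, reassoc_of% hσι, Over.w η[G], Category.id_comp]
    exact Category.comp_id _
  have hfι : ∀ w, V.ι (f w) = G.hom (U.ι w) := fun w => by
    rw [← Scheme.Hom.comp_apply, ← Scheme.Hom.comp_apply, Scheme.Hom.resLE_comp_ι]
  have hσv : ∀ v, U.ι (σ v) = η[G].left (V.ι v) := fun v => by
    rw [← Scheme.Hom.comp_apply, hσι, Scheme.Hom.comp_apply]; rfl
  have hM₀ : MoreMor.sectionComponents f σ = U.ι ⁻¹' SGA3x.neutralSet G := by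
    ext w
    show w ∈ connectedComponentIn (f ⁻¹' {f w}) (σ (f w)) ↔ _
    rw [Set.mem_preimage, mem_iff, ← hfι]
    set C := connectedComponentIn (G.hom ⁻¹' {V.ι (f w)}) (η[G].left (V.ι (f w))) with hC
    constructor
    · intro hw
      refine (isPreconnected_connectedComponentIn.image _ U.ι.continuous.continuousOn).subset_connectedComponentIn
        ⟨σ (f w), mem_connectedComponentIn (show f (σ (f w)) = f w by rw [← Scheme.Hom.comp_apply, hσ]; rfl), hσv _⟩
        ?_ ⟨w, hw, rfl⟩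
      rintro _ ⟨b, hb, rfl⟩
      show G.hom _ = _
      rw [← hfι, show f b = f w from connectedComponentIn_subset (f ⁻¹' {f w}) _ hb]
    · intro hw
      have hirr : IsIrreducible C := isIrreducible_component G hG _
      have hpre : _root_.IsPreconnected (U.ι ⁻¹' C) :=
        (hirr.2.preimage U.ι.isOpenEmbedding).isPreconnected
      refine hpre.subset_connectedComponentIn (show U.ι (σ (f w)) ∈ C from ?_) ?_ hw
      · rw [hσv]; exact mem_connectedComponentIn (unit_over G _)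
      · intro b hb
        show f b = f w
        apply V.ι.isOpenEmbedding.injective
        rw [hfι]
        exact connectedComponentIn_subset (G.hom ⁻¹' {V.ι (f w)}) _ hb
  have hopen : IsOpen (MoreMor.sectionComponents f σ) := by
    haveI := AbRigid.geometricallyReduced_of_smooth f
    rw [← interior_eq_iff_isOpen]
    refine Set.Subset.antisymm interior_subset fun w hw => ?_
    exact Groth.Agent.S1327.result f σ hσ (f w) (MorphismProperty.pullback_snd _ _ inferInstance) hw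
  refine ⟨V, ⟨U.ι '' MoreMor.sectionComponents f σ, U.ι.isOpenEmbedding.isOpenMap _ hopen⟩, U, hsV, hV, hU, hUU₁, hUV, hηU,
    ?_, ?_⟩
  · show U.ι '' MoreMor.sectionComponents f σ = _
    rw [hM₀, Set.image_preimage_eq_inter_range, Scheme.Opens.range_ι, Set.inter_comm]
  · exact (Nis27.isCompact_constructible (Groth.Agent.S1326.result f σ hσ).isConstructible).image U.ι.continuous

omit [Smooth (U₁.ι ≫ G.hom)] in
/-- The division map restricted on the second factor to a smooth open is smooth. -/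
theorem smooth_div (O : G.left.Opens) [Smooth (O.ι ≫ G.hom)] :
    Smooth (((snd G G).left ⁻¹ᵁ O).ι ≫ ((𝟙 G ⊗ₘ ι[G]) ≫ μ[G]).left) ∧
      Smooth (((snd G G).left ⁻¹ᵁ O).ι ≫ (fst G G).left) := by
  let e : G ⊗ G ≅ G ⊗ G :=
    { hom := lift ((𝟙 G ⊗ₘ ι[G]) ≫ μ[G]) (snd G G)
      inv := lift (fst G G * snd G G) (snd G G)
      hom_inv_id := by
        apply CartesianMonoidalCategory.hom_ext <;> simp [MonObj.comp_mul, ← Hom.mul_def, GrpObj.inv_eq_inv,
          GrpObj.comp_inv, MonObj.mul_eq_mul]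
      inv_hom_id := by
        apply CartesianMonoidalCategory.hom_ext <;> simp [MonObj.comp_mul, GrpObj.inv_eq_inv,
          GrpObj.comp_inv, MonObj.mul_eq_mul] }
  haveI : IsIso e.hom.left := inferInstanceAs (IsIso ((Over.forget S).mapIso e).hom)
  have sq0 : IsPullback (fst G G).left (snd G G).left G.hom G.hom := IsPullback.of_hasPullback G.hom G.hom
  have sqe : IsPullback (e.hom.left ≫ (fst G G).left) (snd G G).left G.hom G.hom := by
    have h := (IsPullback.of_horiz_isIso (fst := e.hom.left) (snd := (snd G G).left) (f := (snd G G).left)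
      (g := 𝟙 G.left) ⟨by rw [← Over.comp_left, lift_snd]; simp⟩).paste_horiz sq0
    rwa [Category.id_comp] at h
  refine ⟨?_, MorphismProperty.of_isPullback ((isPullback_morphismRestrict (snd G G).left O).flip.paste_horiz sq0).flip ‹_›⟩
  have h := MorphismProperty.of_isPullback ((isPullback_morphismRestrict (snd G G).left O).flip.paste_horiz sqe).flip
    ‹Smooth (O.ι ≫ G.hom)›
  rwa [← Over.comp_left, lift_fst] at h

include hU₁ in
/-- Around each of its points the set of neutral components is an open on which `G` is smooth and quasi-compact. -/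
theorem exists_open_smooth (s : S) :
    ∃ (V : S.Opens) (N : G.left.Opens), s ∈ V ∧ IsAffineOpen V ∧ (N : Set G.left) = SGA3x.neutralSet G ∩ G.hom ⁻¹' V ∧
      IsCompact (N : Set G.left) ∧ Smooth (N.ι ≫ G.hom) := by
  have hG := lft_fibres' G U₁ hU₁
  obtain ⟨V, O, U, hsV, hV, hU, hUU₁, hUV, hηU, hO, hOc⟩ := exists_smooth_chart G U₁ hU₁ s
  have hOU : O ≤ U₁ := fun x hx => hUU₁ (hO.le hx).1
  haveI : Smooth (O.ι ≫ G.hom) := by rw [← G.left.homOfLE_ι hOU, Category.assoc]; infer_instance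
  obtain ⟨hd, hf⟩ := smooth_div G O
  let Q : (G ⊗ G).left.Opens := (snd G G).left ⁻¹ᵁ O
  let D := ((𝟙 G ⊗ₘ ι[G]) ≫ μ[G]).left
  let R : Q.toScheme.Opens := (Q.ι ≫ (fst G G).left) ⁻¹ᵁ O
  let d : R.toScheme ⟶ G.left := R.ι ≫ Q.ι ≫ D
  haveI : Smooth d := MorphismProperty.comp_mem @Smooth _ _ inferInstance hd
  have hcompat : D ≫ G.hom = (fst G G).left ≫ G.hom := by
    rw [Over.w ((𝟙 G ⊗ₘ ι[G]) ≫ μ[G]), Over.w (fst G G)]
  have hrange : Set.range d = SGA3x.neutralSet G ∩ G.hom ⁻¹' V := by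
    refine Set.Subset.antisymm ?_ fun x hx => ?_
    · rintro _ ⟨r, rfl⟩
      have h1 := hO.le (show (fst G G).left (Q.ι (R.ι r)) ∈ (O : Set G.left) from r.2)
      have h2 := hO.le (show (snd G G).left (Q.ι (R.ι r)) ∈ (O : Set G.left) from (R.ι r).2)
      refine ⟨?_, ?_⟩
      · simp only [d, D, Scheme.Hom.comp_apply, Over.comp_left]
        refine mul_mem G _ ?_ ?_
        · rw [← hap, tensorHom_fst, Category.comp_id]
          exact h1.2
        · rw [← hap, tensorHom_snd, hap]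
          exact inv_mem G h2.2
      · show G.hom (D (Q.ι (R.ι r))) ∈ V
        rw [← Scheme.Hom.comp_apply, hcompat, Scheme.Hom.comp_apply]
        exact hUV h1.1
    · obtain ⟨z, h1, h2, h3, h4⟩ := exists_div G hG hx.1 U (hηU _ hx.2)
      have h5 : (fst G G).left z ∈ SGA3x.neutralSet G := by
        have hD' : (𝟙 G ⊗ₘ ι[G]) ≫ μ[G] = fst G G * (snd G G)⁻¹ := by
          rw [Hom.inv_def, Hom.mul_def]
          congr 1
        have h := mul_mem G ((lift ((𝟙 G ⊗ₘ ι[G]) ≫ μ[G]) (snd G G)).left z)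
          (by rw [← hap, lift_fst, h3]; exact hx.1) (by rw [← hap, lift_snd]; exact h4)
        rwa [← hap, ← Hom.mul_def, hD', inv_mul_cancel_right] at h
      exact ⟨⟨⟨z, hO.ge ⟨h2, h4⟩⟩, hO.ge ⟨h1, h5⟩⟩, h3⟩
  let N : G.left.Opens := ⟨SGA3x.neutralSet G ∩ G.hom ⁻¹' V, hrange ▸ d.isOpenMap.isOpen_range⟩
  refine ⟨V, N, hsV, hV, rfl, ?_, ?_⟩
  · show IsCompact (SGA3x.neutralSet G ∩ G.hom ⁻¹' (V : Set S))
    rw [← hrange]
    haveI : IsAffine V.toScheme := hV
    haveI : CompactSpace O.toScheme := isCompact_iff_compactSpace.1 hOc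
    haveI : CompactSpace R.toScheme := by
      haveI : QuasiSeparatedSpace V.toScheme := inferInstance
      let g : O.toScheme ⟶ V.toScheme := IsOpenImmersion.lift V.ι (O.ι ≫ G.hom) (by
        rintro _ ⟨p, rfl⟩
        rw [Scheme.Opens.range_ι, Scheme.Hom.comp_apply]
        exact hUV (hO.le p.2).1)
      have hg : g ≫ V.ι = O.ι ≫ G.hom := IsOpenImmersion.lift_fac _ _ _
      haveI : QuasiCompact g := quasiCompact_of_compactSpace g
      haveI : CompactSpace ↥(pullback g g) := QuasiCompact.compactSpace_of_compactSpace (pullback.fst g g)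
      let j : pullback g g ⟶ (G ⊗ G).left :=
        pullback.map g g G.hom G.hom O.ι O.ι V.ι hg hg
      have hj : Set.range j = (fst G G).left ⁻¹' O ∩ (snd G G).left ⁻¹' O := by
        refine (Scheme.Pullback.range_map _ _ _ _ O.ι O.ι V.ι _ _).trans ?_
        rw [Scheme.Opens.range_ι]
        rfl
      refine ⟨?_⟩
      rw [R.ι.isOpenEmbedding.isEmbedding.isCompact_iff, Set.image_univ, Scheme.Opens.range_ι,
        Q.ι.isOpenEmbedding.isEmbedding.isCompact_iff]
      convert isCompact_range j.continuous using 1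
      rw [hj]
      ext z
      constructor
      · rintro ⟨q, hq, rfl⟩
        exact ⟨hq, q.2⟩
      · exact fun h => ⟨⟨z, h.2⟩, h.1, rfl⟩
    exact isCompact_range d.continuous
  · let d' : R.toScheme ⟶ N.toScheme := IsOpenImmersion.lift N.ι d (by
      rw [Scheme.Opens.range_ι, hrange]; exact subset_rfl)
    have hd' : d' ≫ N.ι = d := IsOpenImmersion.lift_fac _ _ _
    haveI : Smooth d' := by
      haveI : Smooth (d' ≫ N.ι) := by rw [hd']; infer_instance
      have sqm := (IsPullback.of_horiz_isIso (fst := 𝟙 R.toScheme) (snd := d') (f := d') (g := 𝟙 _)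
        ⟨by simp⟩).paste_vert (IsKernelPair.id_of_mono N.ι)
      rw [Category.comp_id] at sqm
      exact MorphismProperty.of_isPullback sqm ‹Smooth (d' ≫ N.ι)›
    haveI : Surjective d' := ⟨fun x => by
      obtain ⟨r, hr⟩ := hrange.ge x.2
      exact ⟨r, N.ι.isOpenEmbedding.injective (by rw [← Scheme.Hom.comp_apply, hd']; exact hr)⟩⟩
    refine AlgSpDescent.smooth_of_fppf_comp d' (N.ι ≫ G.hom) inferInstance inferInstance inferInstance ?_
    rw [reassoc_of% hd']
    show Smooth ((R.ι ≫ Q.ι ≫ D) ≫ G.hom)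
    rw [Category.assoc, Category.assoc, hcompat, ← Category.assoc Q.ι, ← morphismRestrict_ι_assoc]
    haveI := hf
    haveI : Smooth ((Q.ι ≫ (fst G G).left) ∣_ O) :=
      MorphismProperty.of_isPullback (isPullback_morphismRestrict (Q.ι ≫ (fst G G).left) O).flip hf
    infer_instance

include hU₁ in
theorem isOpen_of_smooth : IsOpen (SGA3x.neutralSet G) := by
  refine isOpen_iff_forall_mem_open.2 fun x hx => ?_
  obtain ⟨V, N, hV, -, hN, -, -⟩ := exists_open_smooth G U₁ hU₁ (G.hom x)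
  exact ⟨N, fun y hy => (hN.le hy).1, N.2, hN.ge ⟨hx, hV⟩⟩

include hU₁ in
theorem exists_openSubgroup : IsOpen (SGA3x.neutralSet G) ∧
    ∃ (G0 : Over S) (_ : GrpObj G0) (i : G0 ⟶ G), IsMonHom i ∧ IsOpenImmersion i.left ∧
      Set.range i.left = SGA3x.neutralSet G ∧ Smooth G0.hom ∧ QuasiCompact G0.hom := by
  refine ⟨isOpen_of_smooth G U₁ hU₁, ?_⟩
  let N : G.left.Opens := ⟨_, isOpen_of_smooth G U₁ hU₁⟩
  let G0 : Over S := Over.mk (N.ι ≫ G.hom)
  let i : G0 ⟶ G := Over.homMk N.ι rfl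
  haveI : Mono i := by
    haveI : Mono ((Over.forget S).map i) := inferInstanceAs (Mono N.ι)
    exact (Over.forget S).mono_of_mono_map ‹_›
  have hfac : ∀ {T : Over S} (g : T ⟶ G), (∀ t, g.left t ∈ SGA3x.neutralSet G) → ∃ g' : T ⟶ G0, g' ≫ i = g := fun {T} g hg => by
    have hr : Set.range g.left ⊆ Set.range N.ι := by rintro _ ⟨t, rfl⟩; rw [Scheme.Opens.range_ι]; exact hg t
    refine ⟨Over.homMk (IsOpenImmersion.lift N.ι g.left hr) (by simp [G0]), ?_⟩
    ext
    exact IsOpenImmersion.lift_fac _ _ _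
  have hiN : ∀ t, i.left t ∈ SGA3x.neutralSet G := fun t => t.2
  obtain ⟨m, hm⟩ := hfac ((fst G0 G0 ≫ i) * (snd G0 G0 ≫ i)) fun t => by
    rw [show (fst G0 G0 ≫ i) * (snd G0 G0 ≫ i) = (i ⊗ₘ i) ≫ μ[G] by simp [MonObj.mul_eq_mul, MonObj.comp_mul], hap]
    refine mul_mem G _ ?_ ?_
    · rw [← hap, tensorHom_fst, hap]; exact hiN _
    · rw [← hap, tensorHom_snd, hap]; exact hiN _
  obtain ⟨e, he⟩ := hfac (1 : 𝟙_ (Over S) ⟶ G) fun t => by
    rw [Hom.one_def, hap]; exact unit_mem G _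
  obtain ⟨n, hn⟩ := hfac i⁻¹ fun t => by
    rw [← Category.comp_id i, ← GrpObj.comp_inv, ← GrpObj.inv_eq_inv, hap]
    exact inv_mem G (hiN _)
  letI := SubGrp13.grpObjOfMono i hm he hn
  refine ⟨G0, inferInstance, i, SubGrp13.isMonHom_grpObjOfMono i hm he hn, inferInstanceAs (IsOpenImmersion N.ι),
    (Scheme.Opens.range_ι N), ?_, ?_⟩
  · refine GrpAtPt20.of_forall_nhd @Smooth _ fun x => ?_
    obtain ⟨V, N', hV, -, hN', -, hsm⟩ := exists_open_smooth G U₁ hU₁ (G.hom (N.ι x))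
    refine ⟨N.ι ⁻¹ᵁ N', hN'.ge ⟨x.2, hV⟩, ?_⟩
    show Smooth ((N.ι ⁻¹ᵁ N').ι ≫ N.ι ≫ G.hom)
    rw [← morphismRestrict_ι_assoc]
    exact MorphismProperty.comp_mem @Smooth _ _ inferInstance hsm
  · choose V N' hsV hV hN' hc hsm using exists_open_smooth G U₁ hU₁
    refine (IsZariskiLocalAtTarget.iff_of_iSup_eq_top (P := @QuasiCompact) V
      (top_le_iff.1 fun s _ => TopologicalSpace.Opens.mem_iSup.2 ⟨s, hsV s⟩)).2 fun s => ?_
    haveI : IsAffine (V s).toScheme := hV s
    have hc' : IsCompact ((G0.hom ⁻¹ᵁ V s : G0.left.Opens) : Set G0.left) := by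
      rw [N.ι.isOpenEmbedding.isEmbedding.isCompact_iff]
      convert hc s using 1
      rw [hN']
      ext z
      constructor
      · rintro ⟨w, hw, rfl⟩; exact ⟨w.2, hw⟩
      · exact fun h => ⟨⟨z, h.1⟩, h.2, rfl⟩
    haveI : CompactSpace (G0.hom ⁻¹ᵁ V s).toScheme := isCompact_iff_compactSpace.1 hc'
    exact quasiCompact_of_compactSpace _

end Groth.Agent.GrpNeutral20
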