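import Groth.Agent.Lib.GrpNeutral20.Basic
import Groth.Agent.Lib.SectionCompOpen4

/-!
# The neutral components are stable under conjugation; the one-point base case
-/

set_option autoImplicit false

universe u

open CategoryTheory CategoryTheory.Limits MonoidalCategory CartesianMonoidalCategory MonObj GrpObj AlgebraicGeometry

namespace Groth.Agent.GrpNeutral20

variable {S : Scheme.{u}} (G : Over S) [GrpObj G]

theorem conj_mem (z : (G ⊗ G).left) (h2 : (snd G G).left z ∈ SGA3x.neutralSet G) :
    (fst G G * snd G G * (fst G G)⁻¹).left z ∈ SGA3x.neutralSet G := by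
  let x := (fst G G).left z
  let T : Over S := Over.mk (G.left.fromSpecResidueField x ≫ G.hom)
  let a : T ⟶ G := Over.homMk (G.left.fromSpecResidueField x) rfl
  obtain ⟨w, -, hw⟩ := Scheme.exists_preimage_of_isPullback
    ((AbRigid.isPullback_whiskerRight a G).map (Over.forget S)) (IsLocalRing.closedPoint (G.left.residueField x) : Spec (G.left.residueField x))
    z (Scheme.fromSpecResidueField_apply x _)
  have sq : IsPullback (snd T G).left (fst T G).left G.hom T.hom := (IsPullback.of_hasPullback T.hom G.hom).flip
  let e' : T ⟶ T ⊗ G := lift (𝟙 T) 1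
  have hc := preimage_neutralSet G (K := G.left.residueField x) (y := T.hom) sq e'.left
    (show e'.left ≫ (snd T G).left = _ by
      rw [← Over.comp_left, lift_snd, Hom.one_def, Over.comp_left]
      congr 1)
    (show e'.left ≫ (fst T G).left = _ by rw [← Over.comp_left, lift_fst]; rfl)
  have hw' : (snd T G).left w ∈ SGA3x.neutralSet G := by
    rw [← show (a ▷ G).left w = z from hw, ← hap, whiskerRight_snd] at h2
    exact h2
  let φ : T ⊗ G ⟶ G := (a ▷ G) ≫ (fst G G * snd G G * (fst G G)⁻¹)
  have hzm : (fst G G * snd G G * (fst G G)⁻¹).left z = φ.left w := by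
    rw [hap, show (a ▷ G).left w = z from hw]
  have hover : ∀ v : (T ⊗ G).left, G.hom (φ.left v) = G.hom x := fun v => by
    rw [← Scheme.Hom.comp_apply, Over.w φ, ← show (fst T G).left ≫ T.hom = (T ⊗ G).hom from Over.w (fst T G),
      Scheme.Hom.comp_apply]
    show G.hom (G.left.fromSpecResidueField x _) = _
    rw [Scheme.fromSpecResidueField_apply]
  have he : e' ≫ φ = 1 := by
    simp only [φ, e', ← Category.assoc, lift_whiskerRight, Category.id_comp, MonObj.comp_mul, GrpObj.comp_inv,
      lift_fst, lift_snd, _root_.mul_one, mul_inv_cancel]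
  rw [hzm]
  have hunit : φ.left (e'.left (IsLocalRing.closedPoint (G.left.residueField x))) = η[G].left (G.hom x) := by
    rw [← hap, he, Hom.one_def, hap]
    congr 1
    show G.hom (G.left.fromSpecResidueField x _) = _
    rw [Scheme.fromSpecResidueField_apply]
  have hsub : φ.left '' connectedComponent (e'.left (IsLocalRing.closedPoint (G.left.residueField x))) ⊆
      connectedComponentIn (G.hom ⁻¹' {G.hom x}) (η[G].left (G.hom x)) := by
    refine (isPreconnected_connectedComponent.image _ (Scheme.Hom.continuous _).continuousOn).subset_connectedComponentIn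
      ⟨_, mem_connectedComponent, hunit⟩ ?_
    rintro _ ⟨v, -, rfl⟩
    exact hover v
  rw [mem_iff, hover]
  exact hsub ⟨w, hc.le hw', rfl⟩

theorem neutralSet_eq_of_subsingleton [Subsingleton S] (pt : ↥(𝟙_ (Over S)).left) :
    SGA3x.neutralSet G = connectedComponent (η[G].left pt) := by
  haveI : Subsingleton ↥(𝟙_ (Over S)).left := inferInstanceAs (Subsingleton ↥S)
  have h : ∀ p : ↥(𝟙_ (Over S)).left, G.hom.base ⁻¹' {(𝟙_ (Over S)).hom.base p} = Set.univ := fun p =>
    Set.eq_univ_of_forall fun _ => Subsingleton.elim (α := ↥S) _ _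
  refine Set.ext fun x => ⟨fun hx => ?_, fun hx => Set.mem_iUnion.2 ⟨pt, ?_⟩⟩
  · obtain ⟨p, hp⟩ := Set.mem_iUnion.1 hx
    rw [h p, connectedComponentIn_univ, Subsingleton.elim p pt] at hp
    exact hp
  · rw [h pt, connectedComponentIn_univ]
    exact hx

end Groth.Agent.GrpNeutral20
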