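import Groth.Agent.Lib.GrpNeutral20.Cons
import Groth.Agent.Lib.SectionComp4
import Groth.Agent.Lib.GrpCM20.Basic
import Groth.Agent.Lib.FibDim14.BaseChange

/-!
# Generizations along the neutral components when the dimension of the fibres is constant
-/

universe u

open CategoryTheory Limits MonoidalCategory CartesianMonoidalCategory AlgebraicGeometry Topology
open scoped MonObj GrpObj

set_option linter.style.haveILetI false
set_option backward.isDefEq.respectTransparency false

namespace Groth.Agent.GrpNeutral20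

variable {S : Scheme.{u}} (G : Over S) [GrpObj G]

/-- In a group the dimension of the fibre at a point is the dimension of the fibre. -/
theorem fibreDimAt_eq [LocallyOfFiniteType G.hom] (x : G.left) :
    FlatMor.fibreDimAt G.hom x = topologicalKrullDim ↥(G.hom ⁻¹' {G.hom x}) := by
  let F := Over.pullback (S.fromSpecResidueField (G.hom x))
  letI : GrpObj (F.obj G) := Functor.grpObjObj
  haveI : LocallyOfFiniteType (F.obj G).hom := inferInstanceAs (LocallyOfFiniteType (pullback.snd _ _))
  rw [show topologicalKrullDim ↥(G.hom ⁻¹' {G.hom x}) = topologicalKrullDim ↥(G.hom.fiber (G.hom x)) from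
    (IsHomeomorph.topologicalKrullDim_eq _ (G.hom.fiberHomeo (G.hom x)).isHomeomorph).symm]
  exact GrpCM20.localDim_eq (F.obj G) (G.hom.asFiber x)

/-- The fibres have the same dimension at every generization. -/
def ConstDimGen : Prop :=
  ∀ y' y : S, y' ⤳ y → FlatMor.fibreDimAt G.hom (η[G].left y') = FlatMor.fibreDimAt G.hom (η[G].left y)

theorem constDimGen_of_isLocallyConstant [LocallyOfFiniteType G.hom]
    (hdim : IsLocallyConstant (fun s : S => topologicalKrullDim ↥(G.hom ⁻¹' {s}))) : ConstDimGen G := by
  intro y' y h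
  rw [fibreDimAt_eq, fibreDimAt_eq, unit_over, unit_over]
  exact h.mem_open (hdim.isOpen_fiber (topologicalKrullDim ↥(G.hom ⁻¹' {y}))) rfl

theorem unit_fst {S' : Scheme.{u}} (f : S' ⟶ S) :
    η[Red.bc f G].left ≫ pullback.fst G.hom f = f ≫ η[G].left := by
  show (Functor.LaxMonoidal.ε (Over.pullback f) ≫ (Over.pullback f).map η[G]).left ≫ _ = _
  rw [Over.comp_left, Category.assoc]
  simp

theorem ConstDimGen.bc [LocallyOfFiniteType G.hom] (h : ConstDimGen G) {S' : Scheme.{u}} (f : S' ⟶ S) :
    ConstDimGen (Red.bc f G) := by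
  intro y' y hy
  have sq : IsPullback (pullback.fst G.hom f) (Red.bc f G).hom G.hom f := IsPullback.of_hasPullback G.hom f
  have e : ∀ z, pullback.fst G.hom f (η[Red.bc f G].left z) = η[G].left (f z) := fun z => by
    show (η[Red.bc f G].left ≫ pullback.fst G.hom f) z = _
    rw [unit_fst]; rfl
  haveI : LocallyOfFiniteType (Red.bc f G).hom := inferInstanceAs (LocallyOfFiniteType (pullback.snd G.hom f))
  rw [FibDim14.fibreDimAt_baseChange sq, FibDim14.fibreDimAt_baseChange sq, e, e]
  exact h _ _ (hy.map f.continuous)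

/-- An open meeting the neutral component over `y` meets it over every generization of `y`. -/
theorem exists_generization [LocallyOfFinitePresentation G.hom] (hd : ConstDimGen G) {M : G.left.Opens} {w : G.left}
    (hwM : w ∈ M) (hw : w ∈ SGA3x.neutralSet G) {y' : S} (hy : y' ⤳ G.hom w) :
    ∃ w' ∈ M, w' ∈ SGA3x.neutralSet G ∧ G.hom w' = y' := by
  have hG := lft_fibres G
  have hs : η[G].left ≫ G.hom = 𝟙 S := Over.w η[G]
  obtain ⟨ξ', hfξ', hξ', -, -, -, -, hd'⟩ :=
    SectionComp4.exists_gen_comp G.hom η[G].left hs (isIrreducible_component G hG y')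
  obtain ⟨ξ, -, -, -, -, -, hdim, hd0⟩ :=
    SectionComp4.exists_gen_comp G.hom η[G].left hs (isIrreducible_component G hG (G.hom w))
  have hsub := (SectionComp4.key G.hom η[G].left hs hy hξ' hfξ').2 (isIrreducible_component G hG _)
    (by rw [hdim, ← hd0, ← hd']; exact (hd _ _ hy).symm)
  obtain ⟨w', hw'M, hw'⟩ := mem_closure_iff.1 (hsub ((mem_iff G w).1 hw)) M M.2 hwM
  have e : G.hom w' = y' := connectedComponentIn_subset (G.hom ⁻¹' {y'}) _ hw'
  exact ⟨w', hw'M, by rw [mem_iff, e]; exact hw', e⟩

end Groth.Agent.GrpNeutral20
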