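import Groth.Agent.Lib.GrpNeutral20.Basic
import Mathlib.AlgebraicGeometry.Morphisms.QuasiSeparated
import Mathlib.FieldTheory.IsAlgClosed.AlgebraicClosure

/-!
# The neutral components are quotients of any neighbourhood of the unit section
-/

universe u

open CategoryTheory Limits MonoidalCategory CartesianMonoidalCategory AlgebraicGeometry Topology
open scoped MonObj GrpObj

set_option linter.style.haveILetI false
set_option backward.isDefEq.respectTransparency false

namespace Groth.Agent.GrpNeutral20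

variable {S : Scheme.{u}} (G : Over S) [GrpObj G]
  (hG : ∀ s : S, LocallyOfFiniteType (G.hom.fiberToSpecResidueField s))

include hG in
/-- A point of the neutral components is a quotient of two points of any open around the unit. -/
theorem exists_div {x : G.left} (hx : x ∈ SGA3x.neutralSet G) (U : G.left.Opens) (hU : η[G].left (G.hom x) ∈ U) :
    ∃ z : (G ⊗ G).left, (fst G G).left z ∈ U ∧ (snd G G).left z ∈ U ∧ ((𝟙 G ⊗ₘ ι[G]) ≫ μ[G]).left z = x ∧
      (snd G G).left z ∈ SGA3x.neutralSet G := by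
  let K := AlgebraicClosure (G.left.residueField x)
  let yx : Spec (CommRingCat.of K) ⟶ G.left :=
    Spec.map (CommRingCat.ofHom (algebraMap (G.left.residueField x) K)) ≫ G.left.fromSpecResidueField x
  let T : Over S := Over.mk (yx ≫ G.hom)
  let a : T ⟶ G := Over.homMk yx rfl
  have sq : IsPullback (snd T G).left (fst T G).left G.hom T.hom := (IsPullback.of_hasPullback T.hom G.hom).flip
  have hC := isIrreducible_preimage G hG (K := K) (y := T.hom) sq
  let pt : T.left := (IsLocalRing.closedPoint K : Spec (CommRingCat.of K))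
  have ha : a.left pt = x := by
    show (Spec.map (CommRingCat.ofHom (algebraMap (G.left.residueField x) K)) ≫ G.left.fromSpecResidueField x) _ = x
    rw [Scheme.Hom.comp_apply]
    exact Scheme.fromSpecResidueField_apply x _
  have hunit : (toUnit T).left pt = (G.hom x : S) := by
    rw [← ha, ← Scheme.Hom.comp_apply, Over.w a]
    rfl
  let m : T ⊗ G ⟶ G := (fst T G ≫ a) * snd T G
  have h1 : (lift (𝟙 T) 1 : T ⟶ T ⊗ G).left pt ∈
      (snd T G).left ⁻¹' SGA3x.neutralSet G ∩ (snd T G).left ⁻¹' U := by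
    have e : (snd T G).left ((lift (𝟙 T) 1 : T ⟶ T ⊗ G).left pt) = η[G].left (G.hom x) := by
      rw [← hap, lift_snd, Hom.one_def, hap, hunit]
    refine ⟨?_, ?_⟩
    · rw [Set.mem_preimage, e]; exact unit_mem G _
    · rw [Set.mem_preimage, e]; exact hU
  have h2 : (lift (𝟙 T) a⁻¹ : T ⟶ T ⊗ G).left pt ∈ (snd T G).left ⁻¹' SGA3x.neutralSet G ∩ m.left ⁻¹' U := by
    refine ⟨?_, ?_⟩
    · rw [Set.mem_preimage, ← hap, lift_snd, ← Category.comp_id a, ← GrpObj.comp_inv, ← GrpObj.inv_eq_inv,
        hap, ha]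
      exact inv_mem G hx
    · rw [Set.mem_preimage, ← hap, show (lift (𝟙 T) a⁻¹ : T ⟶ T ⊗ G) ≫ m = 1 by
        simp [m, MonObj.comp_mul], Hom.one_def, hap, hunit]
      exact hU
  obtain ⟨w, hw0, hw1, hw2⟩ := hC.2 _ _ (U.isOpen.preimage (snd T G).left.continuous)
    (U.isOpen.preimage m.left.continuous) ⟨_, h1⟩ ⟨_, h2⟩
  refine ⟨(lift m (snd T G)).left w, by rw [← hap, lift_fst]; exact hw2, by rw [← hap, lift_snd]; exact hw1, ?_, by rw [← hap, lift_snd]; exact hw0⟩
  rw [← hap, lift_map_assoc, ← Hom.mul_def, GrpObj.inv_eq_inv, GrpObj.comp_inv, Category.comp_id, Category.comp_id]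
  rw [show m * (snd T G)⁻¹ = fst T G ≫ a from mul_inv_cancel_right _ _, hap]
  haveI : Subsingleton T.left := inferInstanceAs (Subsingleton (PrimeSpectrum K))
  rw [Subsingleton.elim ((fst T G).left w) pt, ha]

include hG in
/-- The neutral components lie in every open subgroup. -/
theorem subset_range {H : Over S} [GrpObj H] (i : H ⟶ G) [IsMonHom i] [IsOpenImmersion i.left] :
    SGA3x.neutralSet G ⊆ Set.range i.left := by
  intro x hx
  have hη : ∀ s, η[G].left s ∈ i.left.opensRange := fun s => ⟨η[H].left s, by rw [← hap, IsMonHom.one_hom i]⟩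
  obtain ⟨z, hz1, hz2, hz3, -⟩ := exists_div G hG hx i.left.opensRange (hη _)
  obtain ⟨z', hz'⟩ : z ∈ Set.range (i ⊗ₘ i).left := by
    have hr : Set.range (i ⊗ₘ i).left =
        (fst G G).left ⁻¹' Set.range i.left ∩ (snd G G).left ⁻¹' Set.range i.left := by
      rw [Over.tensorHom_left]
      exact Scheme.Pullback.range_map _ _ _ _ i.left i.left (𝟙 _) _ _
    rw [hr]; exact ⟨hz1, hz2⟩
  refine ⟨((𝟙 H ⊗ₘ ι[H]) ≫ μ[H]).left z', ?_⟩
  rw [← hz3, ← hz', ← hap, ← hap]
  congr 2
  rw [Category.assoc, IsMonHom.mul_hom, ← Category.assoc, tensorHom_comp_tensorHom, Category.id_comp,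
    GrpObj.inv_hom, ← Category.assoc, tensorHom_comp_tensorHom, Category.comp_id]

include hG in
/-- A quasi-compact open containing the neutral components. -/
theorem exists_isCompact_open [CompactSpace S] [QuasiSeparatedSpace S] :
    ∃ U : G.left.Opens, IsCompact (U : Set G.left) ∧ SGA3x.neutralSet G ⊆ U := by
  have key : ∀ A : Set G.left, IsCompact A → ∃ U : G.left.Opens, IsCompact (U : Set G.left) ∧ A ⊆ U := by
    intro A hA
    obtain ⟨t, ht⟩ := hA.elim_finite_subcover (fun i : G.left.affineOpens => (i.1 : Set G.left))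
      (fun i => i.1.isOpen) (fun x _ => by
        obtain ⟨V, hV, hxV, -⟩ := exists_isAffineOpen_mem_and_subset (X := G.left) (x := x) (U := ⊤) trivial
        exact Set.mem_iUnion.2 ⟨⟨V, hV⟩, hxV⟩)
    refine ⟨⨆ i ∈ t, i.1, ?_, ht.trans (le_of_eq (by simp))⟩
    simp only [TopologicalSpace.Opens.coe_iSup]
    exact t.isCompact_biUnion fun i _ => i.2.isCompact
  haveI : CompactSpace (𝟙_ (Over S)).left := ‹CompactSpace S›
  obtain ⟨U, hU, heU⟩ := key _ (isCompact_range η[G].left.continuous)
  haveI : CompactSpace U.toScheme := isCompact_iff_compactSpace.1 hU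
  haveI : QuasiCompact (U.ι ≫ G.hom) :=
    quasiCompact_of_compactSpace _
  haveI : CompactSpace ↥(pullback (U.ι ≫ G.hom) (U.ι ≫ G.hom)) :=
    QuasiCompact.compactSpace_of_compactSpace (pullback.fst (U.ι ≫ G.hom) (U.ι ≫ G.hom))
  let i : pullback (U.ι ≫ G.hom) (U.ι ≫ G.hom) ⟶ (G ⊗ G).left :=
    pullback.map _ _ G.hom G.hom U.ι U.ι (𝟙 _) (Category.comp_id _) (Category.comp_id _)
  obtain ⟨U', hU', hsub⟩ := key _ ((isCompact_range i.continuous).image ((𝟙 G ⊗ₘ ι[G]) ≫ μ[G]).left.continuous)
  refine ⟨U', hU', fun x hx => hsub ?_⟩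
  obtain ⟨z, h1, h2, h3, -⟩ := exists_div G hG hx U (heU ⟨G.hom x, rfl⟩)
  refine ⟨z, ?_, h3⟩
  have hr : Set.range i = (fst G G).left ⁻¹' U ∩ (snd G G).left ⁻¹' U := by
    refine (Scheme.Pullback.range_map _ _ _ _ U.ι U.ι (𝟙 _) (Category.comp_id _) (Category.comp_id _)).trans ?_
    rw [Scheme.Opens.range_ι]
    rfl
  rw [hr]
  exact ⟨h1, h2⟩

include hG in
/-- The neutral components of an open subgroup. -/
theorem image_neutralSet {H : Over S} [GrpObj H] (i : H ⟶ G) [IsMonHom i] [IsOpenImmersion i.left] :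
    i.left '' SGA3x.neutralSet H = SGA3x.neutralSet G := by
  have hh : ∀ w, G.hom (i.left w) = H.hom w := fun w => by rw [← Scheme.Hom.comp_apply, Over.w i]
  have hη : ∀ s, i.left (η[H].left s) = η[G].left s := fun s => by rw [← hap, IsMonHom.one_hom i]
  refine Set.Subset.antisymm ?_ fun x hx => ?_
  · rintro _ ⟨w, hw, rfl⟩
    rw [mem_iff] at hw ⊢
    rw [hh, ← hη]
    refine (isPreconnected_connectedComponentIn.image _ i.left.continuous.continuousOn).subset_connectedComponentIn
      ⟨_, mem_connectedComponentIn (unit_over H (H.hom w)), rfl⟩ ?_ ⟨w, hw, rfl⟩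
    rintro _ ⟨b, hb, rfl⟩
    show G.hom _ = _
    rw [hh]
    exact connectedComponentIn_subset (H.hom ⁻¹' {H.hom w}) _ hb
  · obtain ⟨w, rfl⟩ := subset_range G hG i hx
    refine ⟨w, ?_, rfl⟩
    rw [mem_iff, hh] at hx
    rw [mem_iff]
    let C := connectedComponentIn (G.hom ⁻¹' {H.hom w}) (η[G].left (H.hom w))
    have hC : ∀ c ∈ C, c ∈ SGA3x.neutralSet G := fun c hc => by
      have e : G.hom c = H.hom w := connectedComponentIn_subset (G.hom ⁻¹' {H.hom w}) _ hc
      rw [mem_iff, e]; exact hc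
    have hpre : _root_.IsPreconnected (i.left ⁻¹' C) := by
      rw [← i.left.isOpenEmbedding.isInducing.isPreconnected_image,
        Set.image_preimage_eq_of_subset fun c hc => subset_range G hG i (hC c hc)]
      exact isPreconnected_connectedComponentIn
    refine hpre.subset_connectedComponentIn (show i.left (η[H].left (H.hom w)) ∈ C from ?_) ?_ hx
    · rw [hη]; exact mem_connectedComponentIn (unit_over G _)
    · intro b hb
      show H.hom b = _
      rw [← hh]
      exact connectedComponentIn_subset (G.hom ⁻¹' {H.hom w}) _ hb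

end Groth.Agent.GrpNeutral20
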