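import Groth.Agent.Lib.GrpNeutral20.ActOpen
import Groth.Agent.Lib.OrbitTop19.Base

/-!
# Separatedness from separated translates
-/

universe u

open CategoryTheory Limits MonoidalCategory CartesianMonoidalCategory AlgebraicGeometry Topology
open scoped MonObj GrpObj

set_option linter.style.haveILetI false
set_option backward.isDefEq.respectTransparency false

namespace Groth.Agent.GrpNeutral20

variable {S : Scheme.{u}}

/-- A point outside the diagonal with both coordinates in a separated open is outside its closure. -/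
theorem diagonal_nhd {X : Scheme.{u}} (f : X ⟶ S) (V : X.Opens) (hV : IsSeparated (V.ι ≫ f))
    (q : (pullback f f).carrier) (h1 : pullback.fst f f q ∈ V) (h2 : pullback.snd f f q ∈ V)
    (hq : q ∉ Set.range (pullback.diagonal f)) :
    ∃ O : Set (pullback f f).carrier, IsOpen O ∧ q ∈ O ∧ ∀ q' ∈ O, q' ∉ Set.range (pullback.diagonal f) := by
  let g := V.ι ≫ f
  haveI : IsSeparated g := hV
  let j : pullback g g ⟶ pullback f f := pullback.map g g f f V.ι V.ι (𝟙 S) (by simp [g]) (by simp [g])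
  haveI : IsOpenImmersion j := inferInstance
  haveI : IsClosedImmersion (pullback.diagonal g) := inferInstance
  have hd : pullback.diagonal g ≫ j = V.ι ≫ pullback.diagonal f := by
    apply pullback.hom_ext <;> simp [j]
  refine ⟨j '' (Set.range (pullback.diagonal g))ᶜ,
    j.isOpenEmbedding.isOpenMap _ (pullback.diagonal g).isClosedEmbedding.isClosed_range.isOpen_compl, ?_, ?_⟩
  · have hr : q ∈ Set.range j := by
      rw [Scheme.Pullback.range_map]
      exact ⟨⟨⟨_, h1⟩, rfl⟩, ⟨⟨_, h2⟩, rfl⟩⟩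
    obtain ⟨p, rfl⟩ := hr
    refine ⟨p, fun ⟨v, hv⟩ => hq ⟨V.ι v, ?_⟩, rfl⟩
    rw [← hv, ← Scheme.Hom.comp_apply, ← Scheme.Hom.comp_apply, hd]
  · rintro _ ⟨p, hp, rfl⟩ ⟨x, hx⟩
    have hxV : x ∈ V := by
      have h3 := congrArg (pullback.fst f f) hx
      rw [← Scheme.Hom.comp_apply, ← Scheme.Hom.comp_apply, pullback.diagonal_fst,
        show j ≫ pullback.fst f f = pullback.fst g g ≫ V.ι from pullback.lift_fst _ _ _] at h3
      have h4 : x = V.ι (pullback.fst g g p) := h3
      rw [h4]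
      exact (pullback.fst g g p).2
    refine hp ⟨⟨x, hxV⟩, j.isOpenEmbedding.injective ?_⟩
    rw [← Scheme.Hom.comp_apply, hd, Scheme.Hom.comp_apply]
    exact hx

/-- A morphism is separated if any two points of a fibre lie in a common separated open. -/
theorem isSeparated_of_common_opens {X : Scheme.{u}} (f : X ⟶ S)
    (h : ∀ q : (pullback f f).carrier,
      ∃ V : X.Opens, IsSeparated (V.ι ≫ f) ∧ pullback.fst f f q ∈ V ∧ pullback.snd f f q ∈ V) :
    IsSeparated f := by
  haveI : IsClosedImmersion (pullback.diagonal f) := by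
    refine IsClosedImmersion.of_isPreimmersion _ ?_
    rw [← isOpen_compl_iff, isOpen_iff_forall_mem_open]
    intro q hq
    obtain ⟨V, hV, h1, h2⟩ := h q
    obtain ⟨O, hO, hqO, hdisj⟩ := diagonal_nhd f V hV q h1 h2 hq
    exact ⟨O, hdisj, hO, hqO⟩
  exact ⟨inferInstance⟩

/-- Every point has a neighbourhood separated over the base. -/
theorem exists_isSeparated_nhd {X : Scheme.{u}} (f : X ⟶ S) (x : X) :
    ∃ U : X.Opens, x ∈ U ∧ IsSeparated (U.ι ≫ f) := by
  obtain ⟨_, ⟨V, hV, rfl⟩, hxV, -⟩ :=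
    S.isBasis_affineOpens.exists_subset_of_mem_open (Set.mem_univ (f x)) isOpen_univ
  obtain ⟨_, ⟨U, hU, rfl⟩, hxU, hUV⟩ :=
    X.isBasis_affineOpens.exists_subset_of_mem_open (show x ∈ ((f ⁻¹ᵁ V : X.Opens) : Set X) from hxV) (f ⁻¹ᵁ V).2
  haveI : IsAffine (Scheme.Opens.toScheme U) := hU
  haveI : IsAffine (Scheme.Opens.toScheme V) := hV
  refine ⟨U, hxU, ?_⟩
  rw [← f.resLE_comp_ι hUV]
  haveI : IsAffineHom (f.resLE V U hUV) := isAffineHom_of_isAffine _
  haveI : IsSeparated (f.resLE V U hUV) := inferInstance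
  haveI : IsSeparated (Scheme.Opens.ι V) := inferInstance
  exact inferInstanceAs (IsSeparated (f.resLE V U hUV ≫ (Scheme.Opens.ι V)))

variable {G X : Over S} [GrpObj G] [LocallyOfFinitePresentation G.hom] (a : AlgGrp.Action G X)

omit [LocallyOfFinitePresentation G.hom] in
theorem subset_actSet (U : X.left.Opens) : (U : Set X.left) ⊆ actSet a U := by
  intro x hx
  refine ⟨(lift (toUnit X ≫ η[G]) (𝟙 X)).left x, ⟨?_, ?_⟩, ?_⟩
  · rw [← hap, lift_fst, hap]
    exact unit_mem G _
  · rw [← hap, lift_snd]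
    exact hx
  · have e : toUnit X ≫ η[G] = (1 : X ⟶ G) := rfl
    rw [← hap, e, AlgGrpBasic19.act_one a (𝟙 X)]
    rfl

end Groth.Agent.GrpNeutral20
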