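import Groth.Agent.Lib.GrpNeutral20.Cons
import Groth.Agent.Lib.GrpNeutral20.Div
import Groth.Agent.Lib.GrpLocus20.Basic
import Groth.Agent.Lib.FlatH4.GenPt
import Groth.Agent.Lib.SectionCompOpen4
import Groth.Agent.S5336

/-!
# Flat homomorphisms and neutral components
-/

universe u

open CategoryTheory Limits MonoidalCategory CartesianMonoidalCategory AlgebraicGeometry Topology
open scoped MonObj GrpObj

set_option linter.style.haveILetI false
set_option backward.isDefEq.respectTransparency false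

namespace Groth.Agent.GrpNeutral20

variable {S : Scheme.{u}}

/-- The stalk of a reduced scheme at a maximal point is a field. -/
theorem isField_stalk_of_isMaxPt {X : Scheme.{u}} [IsReduced X] {x : X} (hx : FlatH4.IsMaxPt x) :
    IsField (X.presheaf.stalk x) := by
  haveI : Subsingleton (PrimeSpectrum (X.presheaf.stalk x)) := by
    refine ⟨fun p q => ?_⟩
    have h : ∀ r : Spec (X.presheaf.stalk x), X.fromSpecStalk x r = x := fun r => hx _ (by
      have : X.fromSpecStalk x r ∈ Set.range (X.fromSpecStalk x) := ⟨r, rfl⟩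
      rwa [Scheme.range_fromSpecStalk] at this)
    exact (X.fromSpecStalk x).isEmbedding.injective ((h p).trans (h q).symm)
  rw [IsLocalRing.isField_iff_maximalIdeal_eq]
  refine le_bot_iff.1 fun a ha => ?_
  have : a ∈ nilradical (X.presheaf.stalk x) := by
    rw [nilradical_eq_sInf, Submodule.mem_sInf]
    intro P hP
    have hPm : P = IsLocalRing.maximalIdeal (X.presheaf.stalk x) :=
      congrArg PrimeSpectrum.asIdeal (Subsingleton.elim (⟨P, hP⟩ : PrimeSpectrum (X.presheaf.stalk x))
        (IsLocalRing.closedPoint _))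
    rw [hPm]
    exact ha
  rwa [nilradical_eq_zero] at this

/-- A morphism is flat at a point whose image has a field as local ring. -/
theorem flat_stalkMap_of_isField {X Y : Scheme.{u}} (f : X ⟶ Y) {x : X}
    (h : IsField (Y.presheaf.stalk (f x))) : (f.stalkMap x).hom.Flat := by
  letI := h.toField
  letI := (f.stalkMap x).hom.toAlgebra
  exact (inferInstance : Module.Flat (Y.presheaf.stalk (f x)) (X.presheaf.stalk x))

variable (G : Over S) [GrpObj G]

/-- The neutral component is open in its fibre. -/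
theorem exists_open_component [LocallyOfFiniteType G.hom] (s : S) :
    ∃ W : G.left.Opens, η[G].left s ∈ W ∧ ∀ x ∈ W, G.hom x = s → x ∈ SGA3x.neutralSet G := by
  haveI : LocallyConnectedSpace ↥(G.hom ⁻¹' ({s} : Set S)) := SectionCompOpen4.locallyConnectedSpace_fibre G.hom s
  obtain ⟨W, hW, hWe⟩ := isOpen_induced_iff.1
    (isOpen_connectedComponent (α := ↥(G.hom ⁻¹' ({s} : Set S))) (x := ⟨η[G].left s, unit_over G s⟩))
  refine ⟨⟨W, hW⟩, ?_, fun x hx hxs => ?_⟩
  · have := Set.ext_iff.1 hWe ⟨η[G].left s, unit_over G s⟩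
    exact this.2 mem_connectedComponent
  · subst hxs
    rw [mem_iff, connectedComponentIn_eq_image (F := G.hom ⁻¹' {G.hom x})
      (show η[G].left (G.hom x) ∈ G.hom ⁻¹' {G.hom x} from unit_over G (G.hom x))]
    exact ⟨⟨x, rfl⟩, (Set.ext_iff.1 hWe ⟨x, rfl⟩).1 hx, rfl⟩

variable {G} {H : Over S} [GrpObj H] (u : G ⟶ H) [IsMonHom u]

/-- A homomorphism maps neutral components to neutral components. -/
theorem hom_mem {x : G.left} (hx : x ∈ SGA3x.neutralSet G) : u.left x ∈ SGA3x.neutralSet H := by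
  have hh : ∀ a, H.hom (u.left a) = G.hom a := fun a => by rw [← Scheme.Hom.comp_apply, Over.w u]
  rw [mem_iff] at hx ⊢
  rw [hh]
  refine (isPreconnected_connectedComponentIn.image _ u.left.continuous.continuousOn).subset_connectedComponentIn
    ⟨_, mem_connectedComponentIn (unit_over G (G.hom x)), ?_⟩ ?_ ⟨x, hx, rfl⟩
  · rw [← hap, IsMonHom.one_hom u]
  · rintro _ ⟨a, ha, rfl⟩
    show H.hom _ = _
    rw [hh]
    exact connectedComponentIn_subset (G.hom ⁻¹' {G.hom x}) _ ha

/-- A flat homomorphism maps the neutral components onto the neutral components. -/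
theorem image_neutralSet_of_isOpenMap [LocallyOfFiniteType G.hom] [LocallyOfFiniteType H.hom]
    (hu : IsOpenMap u.left) : u.left '' SGA3x.neutralSet G = SGA3x.neutralSet H := by
  have hh : ∀ a, H.hom (u.left a) = G.hom a := fun a => by rw [← Scheme.Hom.comp_apply, Over.w u]
  refine Set.Subset.antisymm (by rintro _ ⟨x, hx, rfl⟩; exact hom_mem u hx) fun y hy => ?_
  let s := H.hom y
  obtain ⟨W, hsW, hW⟩ := exists_open_component G s
  let U : H.left.Opens := ⟨u.left '' W, hu _ W.2⟩
  have hsU : η[H].left s ∈ U := ⟨η[G].left s, hsW, by rw [← hap, IsMonHom.one_hom u]⟩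
  have hG : ∀ t : S, LocallyOfFiniteType (H.hom.fiberToSpecResidueField t) := fun t =>
    inferInstanceAs (LocallyOfFiniteType (pullback.snd _ _))
  obtain ⟨z, hz1, hz2, hz3, -⟩ := exists_div H hG hy U hsU
  let D : G ⊗ G ⟶ G := (𝟙 G ⊗ₘ ι[G]) ≫ μ[G]
  let i : pullback (W.ι ≫ G.hom) (W.ι ≫ G.hom) ⟶ (G ⊗ G).left :=
    pullback.map _ _ G.hom G.hom W.ι W.ι (𝟙 _) (Category.comp_id _) (Category.comp_id _)
  obtain ⟨z', hz'⟩ : z ∈ Set.range (i ≫ (u ⊗ₘ u).left) := by
    have e : i ≫ (u ⊗ₘ u).left = pullback.map _ _ H.hom H.hom (W.ι ≫ u.left) (W.ι ≫ u.left) (𝟙 _)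
        (by simp) (by simp) := by
      rw [Over.tensorHom_left]
      apply pullback.hom_ext
      · simp only [i, Category.assoc, pullback.lift_fst, pullback.lift_fst_assoc]
      · simp only [i, Category.assoc, pullback.lift_snd, pullback.lift_snd_assoc]
    rw [e]
    refine (Scheme.Pullback.range_map _ _ _ _ _ _ (𝟙 _) _ _).ge ⟨?_, ?_⟩
    · obtain ⟨g, hg, e'⟩ := hz1; exact ⟨⟨g, hg⟩, e'⟩
    · obtain ⟨g, hg, e'⟩ := hz2; exact ⟨⟨g, hg⟩, e'⟩
  have hD : D ≫ u = (u ⊗ₘ u) ≫ (𝟙 H ⊗ₘ ι[H]) ≫ μ[H] := by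
    simp only [D]
    rw [Category.assoc, IsMonHom.mul_hom, ← Category.assoc, tensorHom_comp_tensorHom, Category.id_comp,
      GrpObj.inv_hom, ← Category.assoc (u ⊗ₘ u), tensorHom_comp_tensorHom, Category.comp_id]
  have hDy : u.left (D.left (i z')) = y := by
    rw [← hap, hD, hap, ← Scheme.Hom.comp_apply i, hz']
    exact hz3
  refine ⟨D.left (i z'), ?_, hDy⟩
  have hover : G.hom (D.left (i z')) = s := by rw [← hh, hDy]
  have h1 : (fst G G).left (i z') ∈ W := by
    rw [show (fst G G).left (i z') = W.ι (pullback.fst (W.ι ≫ G.hom) (W.ι ≫ G.hom) z') from by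
      rw [← Scheme.Hom.comp_apply, ← Scheme.Hom.comp_apply]; rw [show i ≫ (fst G G).left = pullback.fst (W.ι ≫ G.hom) (W.ι ≫ G.hom) ≫ W.ι from pullback.lift_fst _ _ _]]
    exact (pullback.fst (W.ι ≫ G.hom) (W.ι ≫ G.hom) z').2
  have h2 : (snd G G).left (i z') ∈ W := by
    rw [show (snd G G).left (i z') = W.ι (pullback.snd (W.ι ≫ G.hom) (W.ι ≫ G.hom) z') from by
      rw [← Scheme.Hom.comp_apply, ← Scheme.Hom.comp_apply]; rw [show i ≫ (snd G G).left = pullback.snd (W.ι ≫ G.hom) (W.ι ≫ G.hom) ≫ W.ι from pullback.lift_snd _ _ _]]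
    exact (pullback.snd (W.ι ≫ G.hom) (W.ι ≫ G.hom) z').2
  have ho : ∀ (φ : G ⊗ G ⟶ G), G.hom (φ.left (i z')) = s := fun φ => by
    rw [← Scheme.Hom.comp_apply, Over.w φ, ← Over.w D, Scheme.Hom.comp_apply]; exact hover
  show ((𝟙 G ⊗ₘ ι[G]) ≫ μ[G]).left (i z') ∈ _
  rw [hap]
  refine mul_mem G _ ?_ ?_
  · rw [← hap, tensorHom_fst, Category.comp_id]
    exact hW _ h1 (ho _)
  · rw [← hap, tensorHom_snd, hap]
    exact inv_mem G (hW _ h2 (ho _))

/-- A homomorphism to a group with reduced fibres which maps the neutral components onto the neutral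
components is flat. -/
theorem flat_of_image_neutralSet [Flat G.hom] [LocallyOfFinitePresentation G.hom] [LocallyOfFiniteType H.hom]
    (hred : ∀ s : S, IsReduced (H.hom.fiber s))
    (h : u.left '' SGA3x.neutralSet G = SGA3x.neutralSet H) : Flat u.left := by
  have hh : ∀ a, H.hom (u.left a) = G.hom a := fun a => by rw [← Scheme.Hom.comp_apply, Over.w u]
  have hG := lft_fibres G
  refine Flat.of_stalkMap _ fun x => ?_
  refine (GrpLocus20.flat_iff u x).2 ?_
  let s := G.hom x
  -- the generic point of the neutral component of the fibre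
  let F := G.hom.fiber s
  let ι₀ := G.hom.fiberι s
  let C := connectedComponentIn (G.hom ⁻¹' {s}) (η[G].left s)
  have hCsub : C ⊆ Set.range ι₀ := by
    rw [Scheme.Hom.range_fiberι]; exact connectedComponentIn_subset _ _
  obtain ⟨e₀, he₀⟩ := hCsub (mem_connectedComponentIn (unit_over G s))
  have hirr : IsIrreducible (ι₀ ⁻¹' C) := by
    refine ⟨⟨e₀, by rw [Set.mem_preimage, he₀]; exact mem_connectedComponentIn (unit_over G s)⟩, ?_⟩
    intro o o' ho ho' ⟨a, haC, ha⟩ ⟨b, hbC, hb⟩
    obtain ⟨O, hO, rfl⟩ := ι₀.isEmbedding.isInducing.isOpen_iff.1 ho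
    obtain ⟨O', hO', rfl⟩ := ι₀.isEmbedding.isInducing.isOpen_iff.1 ho'
    obtain ⟨c, hcC, hc⟩ := (isIrreducible_component G hG s).2 O O' hO hO' ⟨_, haC, ha⟩ ⟨_, hbC, hb⟩
    obtain ⟨c', rfl⟩ := hCsub hcC
    exact ⟨c', hcC, hc⟩
  have hclosed : IsClosed (ι₀ ⁻¹' C) := by
    rw [show ι₀ ⁻¹' C = connectedComponent e₀ from Set.ext fun w => by
      show ι₀ w ∈ connectedComponentIn _ _ ↔ _
      rw [← he₀]; exact fiberι_mem_iff G.hom s w e₀]
    exact isClosed_connectedComponent
  obtain ⟨ξ, hξ⟩ := QuasiSober.sober hirr hclosed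
  have hξC : ι₀ ξ ∈ C := hξ.mem
  have hξN : ι₀ ξ ∈ SGA3x.neutralSet G := by
    rw [mem_iff, show G.hom (ι₀ ξ) = s from (Scheme.Hom.range_fiberι G.hom s).le ⟨ξ, rfl⟩]
    exact hξC
  -- its image is a maximal point of the fibre of the target
  let Fu := (Over.pullback (S.fromSpecResidueField s)).map u
  have hw : Fu.left ≫ pullback.fst H.hom (S.fromSpecResidueField s) = pullback.fst G.hom (S.fromSpecResidueField s) ≫ u.left :=
    (GrpFin20.isPullback_map (S.fromSpecResidueField s) u).w.symm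
  have hmax : FlatH4.IsMaxPt (Fu.left ξ) := by
    intro y hy
    let j := pullback.fst H.hom (S.fromSpecResidueField s)
    have hj : Set.range j = H.hom ⁻¹' {s} := Scheme.Hom.range_fiberι H.hom s
    have ej : j (Fu.left ξ) = u.left (ι₀ ξ) := by
      show (Fu.left ≫ pullback.fst H.hom (S.fromSpecResidueField s)) ξ = _
      rw [hw]; rfl
    have hsp : j y ⤳ u.left (ι₀ ξ) := ej ▸ hy.map j.continuous
    have hy_s : H.hom (j y) = s := hj.le ⟨y, rfl⟩
    have hu_s : H.hom (u.left (ι₀ ξ)) = s := ej ▸ hj.le ⟨_, rfl⟩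
    have hyN : j y ∈ SGA3x.neutralSet H := by
      rw [mem_iff, hy_s]
      have hcomp := (mem_iff H _).1 (hom_mem u hξN)
      rw [hu_s] at hcomp
      rw [connectedComponentIn_eq hcomp]
      refine (IsPreconnected.subset_closure (s := ({j y} : Set H.left)) isPreconnected_singleton
          (t := ({j y, u.left (ι₀ ξ)} : Set H.left)) (by simp) ?_).subset_connectedComponentIn
        (Set.mem_insert_of_mem _ rfl) ?_ (Set.mem_insert _ _)
      · rintro a (rfl | rfl)
        · exact subset_closure rfl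
        · exact hsp.mem_closure
      · rintro a (rfl | rfl)
        · exact hy_s
        · exact hu_s
    rw [← h] at hyN
    obtain ⟨x', hx', ex'⟩ := hyN
    have hx's : G.hom x' = s := by rw [← hh, ex', hy_s]
    rw [mem_iff, hx's] at hx'
    obtain ⟨z', rfl⟩ := hCsub hx'
    have h2 : u.left (ι₀ ξ) ⤳ j y := by
      rw [← ex']
      exact ((hξ.specializes hx').map ι₀.continuous).map u.left.continuous
    exact j.isEmbedding.injective ((hsp.antisymm h2).eq.trans ej.symm)
  haveI : IsReduced ((Over.pullback (S.fromSpecResidueField s)).obj H).left := hred s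
  letI : GrpObj ((Over.pullback (S.fromSpecResidueField s)).obj G) := Functor.grpObjObj
  letI : GrpObj ((Over.pullback (S.fromSpecResidueField s)).obj H) := Functor.grpObjObj
  haveI : LocallyOfFinitePresentation ((Over.pullback (S.fromSpecResidueField s)).obj G).hom :=
    inferInstanceAs (LocallyOfFinitePresentation (pullback.snd _ _))
  haveI : Flat ((Over.pullback (S.fromSpecResidueField s)).obj G).hom :=
    inferInstanceAs (Flat (pullback.snd _ _))
  exact Groth.Agent.S5336.result (S.residueField s) _ _ Fu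
    ⟨ξ, flat_stalkMap_of_isField _ (isField_stalk_of_isMaxPt hmax)⟩

end Groth.Agent.GrpNeutral20
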