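import Groth.Agent.Lib.GrpNeutral20.Chart
import Groth.Agent.Lib.EGA43Top.UnivOpenAt
import Groth.Agent.Lib.OpenEt4
import Groth.Agent.S4955
import Groth.Agent.S4956

/-!
# Universal openness along the neutral components and constancy of the dimension
-/

universe u

open CategoryTheory Limits MonoidalCategory CartesianMonoidalCategory AlgebraicGeometry Topology
open scoped MonObj GrpObj

set_option linter.style.haveILetI false
set_option backward.isDefEq.respectTransparency false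

namespace Groth.Agent.GrpNeutral20

variable {S : Scheme.{u}} (G : Over S) [GrpObj G]

/-- A point of the neutral components at which the division map is taken inherits universal openness. -/
theorem isUnivOpenAt_of_chart (hG : ∀ s : S, LocallyOfFiniteType (G.hom.fiberToSpecResidueField s)) {s : S}
    (c : Chart G s)
    (h : ∀ w : c.U.toScheme, c.U.ι w ∈ SGA3x.neutralSet G → G.hom (c.U.ι w) = s → EGA43.IsUnivOpenAt c.f w)
    {x : G.left} (hx : x ∈ SGA3x.neutralSet G) (hxs : G.hom x = s) : EGA43.IsUnivOpenAt G.hom x := by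
  obtain ⟨z, h1, h2, h3, h4⟩ := exists_div G hG hx c.U (c.hη _ (hxs.symm ▸ c.hsV))
  let D := ((𝟙 G ⊗ₘ ι[G]) ≫ μ[G]).left
  have hover : ∀ w : (G ⊗ G).left, G.hom (D w) = G.hom ((fst G G).left w) := fun w => by
    rw [← Scheme.Hom.comp_apply, ← Scheme.Hom.comp_apply, Over.w ((𝟙 G ⊗ₘ ι[G]) ≫ μ[G]), Over.w (fst G G)]
  have hover2 : ∀ w : (G ⊗ G).left, G.hom ((fst G G).left w) = G.hom ((snd G G).left w) := fun w => by
    rw [← Scheme.Hom.comp_apply, ← Scheme.Hom.comp_apply, Over.w (snd G G), Over.w (fst G G)]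
  have h5 : (fst G G).left z ∈ SGA3x.neutralSet G := by
    have hD' : (𝟙 G ⊗ₘ ι[G]) ≫ μ[G] = fst G G * (snd G G)⁻¹ := by
      rw [Hom.inv_def, Hom.mul_def]
      congr 1
    have h := mul_mem G ((lift ((𝟙 G ⊗ₘ ι[G]) ≫ μ[G]) (snd G G)).left z)
      (by rw [← hap, lift_fst, h3]; exact hx) (by rw [← hap, lift_snd]; exact h4)
    rwa [← hap, ← Hom.mul_def, hD', inv_mul_cancel_right] at h
  have hz1 : G.hom ((fst G G).left z) = s := by rw [← hover, show D z = x from h3, hxs]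
  let j : pullback c.f c.f ⟶ (G ⊗ G).left :=
    pullback.map c.f c.f G.hom G.hom c.U.ι c.U.ι c.V.ι c.f_ι c.f_ι
  have hj : Set.range j = (fst G G).left ⁻¹' c.U ∩ (snd G G).left ⁻¹' c.U := by
    refine (Scheme.Pullback.range_map _ _ _ _ c.U.ι c.U.ι c.V.ι _ _).trans ?_
    rw [Scheme.Opens.range_ι]
    rfl
  obtain ⟨w, rfl⟩ := hj.ge ⟨h1, h2⟩
  have hw1 : c.U.ι (pullback.fst c.f c.f w) = (fst G G).left (j w) := by
    show _ = (j ≫ pullback.fst G.hom G.hom) w
    rw [pullback.lift_fst]; rfl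
  have hw2 : c.U.ι (pullback.snd c.f c.f w) = (snd G G).left (j w) := by
    show _ = (j ≫ pullback.snd G.hom G.hom) w
    rw [pullback.lift_snd]; rfl
  have hfst : EGA43.IsUnivOpenAt (pullback.fst c.f c.f) w :=
    EGA43Top.isUnivOpenAt_baseChange (IsPullback.of_hasPullback c.f c.f).flip
      (h _ (by rw [hw2]; exact h4) (by rw [hw2, ← hover2, hz1]))
  have hcomp : EGA43.IsUnivOpenAt ((j ≫ D) ≫ G.hom) w := by
    rw [show (j ≫ D) ≫ G.hom = pullback.fst c.f c.f ≫ c.f ≫ c.V.ι by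
      rw [Category.assoc, show D ≫ G.hom = (fst G G).left ≫ G.hom by
        rw [Over.w ((𝟙 G ⊗ₘ ι[G]) ≫ μ[G]), Over.w (fst G G)],
        show (fst G G).left = pullback.fst G.hom G.hom from rfl, pullback.lift_fst_assoc, Category.assoc, c.f_ι]]
    exact EGA43Top.isUnivOpenAt_comp hfst (EGA43Top.isUnivOpenAt_comp
      (h _ (by rw [hw1]; exact h5) (by rw [hw1]; exact hz1)) (Unibr4.isUnivOpenAt_of_universallyOpen c.V.ι _))
  have := EGA43Top.isUnivOpenAt_of_comp hcomp
  rwa [show (j ≫ D) w = x by rw [Scheme.Hom.comp_apply]; exact h3] at this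

variable [LocallyOfFinitePresentation G.hom]

theorem univOpen_of_const (s : S)
    (hc : ∃ U ∈ nhds s, ∀ t ∈ U, topologicalKrullDim ↥(G.hom ⁻¹' {t}) = topologicalKrullDim ↥(G.hom ⁻¹' {s}))
    {x : G.left} (hx : x ∈ SGA3x.neutralSet G) (hxs : G.hom x = s) : EGA43.IsUnivOpenAt G.hom x := by
  have hG := lft_fibres G
  obtain ⟨c, -⟩ := exists_chart_le G ⊤ s trivial
  obtain ⟨U, hU, hUc⟩ := hc
  let v : c.V.toScheme := ⟨s, c.hsV⟩
  have hfv : c.f (c.σ v) = v := by rw [← Scheme.Hom.comp_apply, c.σ_f]; rfl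
  obtain ⟨W, hvW, hW⟩ := (Groth.Agent.S4955.result c.f c.σ c.σ_f (fun y => c.gi hG y) (c.σ v)
    (show c.σ v ∈ connectedComponentIn (c.f ⁻¹' {c.f (c.σ v)}) (c.σ (c.f (c.σ v))) by
      rw [hfv]; exact mem_connectedComponentIn hfv)
    ⟨c.V.ι ⁻¹' U, by rw [hfv]; exact c.V.ι.continuous.continuousAt.preimage_mem_nhds hU,
      fun z hz => by
        rw [hfv, c.dim_component hG, c.dim_component hG]
        exact hUc _ hz⟩).1
  refine isUnivOpenAt_of_chart G hG c (fun w hw hws => hW w ?_ ?_) hx hxs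
  · rw [c.sectionComponents_eq hG]; exact hw
  · have : c.f w = v := c.V.ι.isOpenEmbedding.injective (by rw [c.f_apply]; exact hws)
    rw [this, ← hfv]; exact hvW

theorem const_of_univOpen (s : S) (W : G.left.Opens) (hsW : η[G].left s ∈ W)
    (h : ∀ x ∈ SGA3x.neutralSet G, G.hom x = s → x ∈ W → EGA43.IsUnivOpenAt G.hom x) :
    ∃ U ∈ nhds s, ∀ t ∈ U, topologicalKrullDim ↥(G.hom ⁻¹' {t}) = topologicalKrullDim ↥(G.hom ⁻¹' {s}) := by
  have hG := lft_fibres G
  obtain ⟨c, hcW⟩ := exists_chart_le G W s hsW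
  let v : c.V.toScheme := ⟨s, c.hsV⟩
  have hdim : ∀ y : c.V.toScheme,
      topologicalKrullDim ↥(c.f.fiber y) = topologicalKrullDim ↥(connectedComponentIn (c.f ⁻¹' {y}) (c.σ y)) := by
    intro y
    rw [← dim_preimage c.f y]
    refine le_antisymm ?_ (IsEmbedding.inclusion (connectedComponentIn_subset _ _)).isInducing.topologicalKrullDim_le
    rw [c.dim_component hG, ← dim_image c.U.ι.isOpenEmbedding.isEmbedding]
    refine (IsEmbedding.inclusion (t := G.hom ⁻¹' {c.V.ι y}) ?_).isInducing.topologicalKrullDim_le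
    rintro _ ⟨b, hb, rfl⟩
    show G.hom _ = _
    rw [← c.f_apply, show c.f b = y from hb]
  have hopen : ∀ ξ ∈ connectedComponentIn (c.f ⁻¹' {v}) (c.σ v), EGA43.IsUnivOpenAt c.f ξ := by
    intro ξ hξ
    rw [c.component_eq hG] at hξ
    have e : G.hom (c.U.ι ξ) = s := connectedComponentIn_subset (G.hom ⁻¹' {c.V.ι v}) _ hξ
    refine OpenEt4.isUnivOpenAt_restrict G.hom c.f c.U.ι c.V.ι c.f_ι ξ (h _ ?_ e (hcW ξ.2))
    rw [mem_iff, e]; exact hξ
  obtain ⟨V, hV, hVc⟩ := Groth.Agent.S4956.result c.f c.σ c.σ_f (fun y => c.gi hG y) v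
    (fun ξ hξ _ => hopen ξ hξ) (Or.inr fun y _ _ => hdim y)
  refine ⟨c.V.ι '' V, c.V.ι.isOpenEmbedding.image_mem_nhds.2 hV, ?_⟩
  rintro _ ⟨z, hz, rfl⟩
  have := hVc z hz
  rwa [c.dim_component hG, c.dim_component hG] at this

end Groth.Agent.GrpNeutral20
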