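import Groth.Agent.Lib.GrpNeutral20.Gen
import Groth.Agent.Lib.AlgGrpBasic19.Basic
import Groth.Agent.Lib.GrpNeutral20.UnivOpen
import Groth.Agent.S3399
import Groth.Agent.S3403

/-!
# Translates of an open by the neutral components
-/

universe u

open CategoryTheory Limits MonoidalCategory CartesianMonoidalCategory AlgebraicGeometry Topology
open scoped MonObj GrpObj

set_option linter.style.haveILetI false
set_option backward.isDefEq.respectTransparency false

namespace Groth.Agent.GrpNeutral20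

variable {S : Scheme.{u}} {G X : Over S} [GrpObj G] [LocallyOfFinitePresentation G.hom] (a : AlgGrp.Action G X)

/-- The translates of `U` by the neutral components. -/
def actSet (U : X.left.Opens) : Set X.left :=
  a.act.left '' {z : ↥(G ⊗ X).left | (fst G X).left z ∈ SGA3x.neutralSet G ∧ (snd G X).left z ∈ U}

/-- The involution `(g, x) ↦ (g⁻¹, g x)`. -/
noncomputable def flipAct : G ⊗ X ⟶ G ⊗ X := lift (fst G X)⁻¹ a.act

omit [LocallyOfFinitePresentation G.hom] in
theorem flipAct_act : flipAct a ≫ a.act = snd G X := by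
  have h := AlgGrpBasic19.act_mul a (fst G X)⁻¹ (fst G X) (snd G X)
  rw [inv_mul_cancel, AlgGrpBasic19.act_one, lift_fst_snd, Category.id_comp] at h
  exact h.symm

omit [LocallyOfFinitePresentation G.hom] in
theorem flipAct_fst (z : (G ⊗ X).left) (h : (fst G X).left z ∈ SGA3x.neutralSet G) :
    (fst G X).left ((flipAct a).left z) ∈ SGA3x.neutralSet G := by
  rw [← hap, flipAct, lift_fst, ← Category.comp_id (fst G X), ← GrpObj.comp_inv, ← GrpObj.inv_eq_inv, hap]
  exact inv_mem G h

omit [LocallyOfFinitePresentation G.hom] in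
theorem neutralSet_fst (z : (G ⊗ X).left) :
    (fst G X).left z ∈ SGA3x.neutralSet G ↔ z ∈ SGA3x.neutralSet (Red.bc X.hom G) :=
  (Set.ext_iff.1 (neutralSet_bc G X.hom) z).symm

/-- A point of the translates is moved into `U` by a point of the neutral components. -/
theorem exists_moving {U : X.left.Opens} {y : X.left} (hy : y ∈ actSet a U) :
    ∃ w : (G ⊗ X).left, (fst G X).left w ∈ SGA3x.neutralSet G ∧ (snd G X).left w = y ∧ a.act.left w ∈ U := by
  obtain ⟨z, ⟨h1, h2⟩, rfl⟩ := hy
  exact ⟨(flipAct a).left z, flipAct_fst a z h1, by rw [← hap, flipAct, lift_snd],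
    by rw [← hap, flipAct_act]; exact h2⟩

theorem mem_actSet {U : X.left.Opens} {w : (G ⊗ X).left} (h1 : (fst G X).left w ∈ SGA3x.neutralSet G)
    (h2 : a.act.left w ∈ U) : (snd G X).left w ∈ actSet a U :=
  ⟨(flipAct a).left w, ⟨flipAct_fst a w h1, by rw [← hap, flipAct, lift_snd]; exact h2⟩,
    by rw [← hap, flipAct_act]⟩

theorem isOpen_actSet (hd : ConstDimGen G) (U : X.left.Opens) : IsOpen (actSet a U) := by
  haveI hact : LocallyOfFinitePresentation a.act.left := by
    haveI : LocallyOfFinitePresentation (snd G X).left :=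
      inferInstanceAs (LocallyOfFinitePresentation (pullback.snd G.hom X.hom))
    haveI : IsIso (AlgGrpBasic19.shear a).hom.left :=
      inferInstanceAs (IsIso ((Over.forget S).mapIso (AlgGrpBasic19.shear a)).hom)
    rw [← AlgGrpBasic19.shear_hom_snd a, Over.comp_left]
    infer_instance
  have hind : ProCons.IsIndConstructible (actSet a U) := by
    let Q : (G ⊗ X).left.Opens := (snd G X).left ⁻¹ᵁ U
    have e : actSet a U = (Q.ι ≫ a.act.left) '' ((Q.ι ≫ (fst G X).left) ⁻¹' SGA3x.neutralSet G) := by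
      ext y
      constructor
      · rintro ⟨z, ⟨h1, h2⟩, rfl⟩
        exact ⟨⟨z, h2⟩, h1, rfl⟩
      · rintro ⟨q, h1, rfl⟩
        exact ⟨Q.ι q, ⟨h1, q.2⟩, rfl⟩
    rw [e]
    exact Groth.Agent.S3399.result _ _ (ConsH13.isIndConstructible_preimage _ (isIndConstructible G))
  rw [← interior_eq_iff_isOpen]
  refine Set.Subset.antisymm interior_subset fun y hy => ?_
  rw [Groth.Agent.S3403.result X.left _ hind y]
  intro y' hy'
  obtain ⟨w, h1, rfl, h3⟩ := exists_moving a hy
  haveI : LocallyOfFinitePresentation (Red.bc X.hom G).hom :=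
    inferInstanceAs (LocallyOfFinitePresentation (pullback.snd G.hom X.hom))
  obtain ⟨w', hw'M, hw'N, hw'⟩ := exists_generization (Red.bc X.hom G) (hd.bc G X.hom)
    (M := a.act.left ⁻¹ᵁ U) h3 ((neutralSet_fst w).1 h1) (y' := y') hy'
  rw [← show (snd G X).left w' = y' from hw']
  exact mem_actSet a ((neutralSet_fst w').2 hw'N) hw'M

omit [GrpObj G] [LocallyOfFinitePresentation G.hom] in
/-- The diagonal of a separated open. -/
theorem mem_range_diagonal_iff {V : Scheme.{u}} (g : V ⟶ S) {K : Type u} [Field K]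
    (t : Spec (CommRingCat.of K) ⟶ pullback g g) :
    t (IsLocalRing.closedPoint K) ∈ Set.range (pullback.diagonal g) ↔ t ≫ pullback.fst g g = t ≫ pullback.snd g g := by
  constructor
  · rintro ⟨p, hp⟩
    obtain ⟨⟨q, φ⟩, hq⟩ := (Scheme.SpecToEquivOfField K _).symm.surjective t
    change Spec.map φ ≫ (pullback g g).fromSpecResidueField q = t at hq
    have hqp : pullback.diagonal g p = q := by
      rw [hp, ← hq, Scheme.Hom.comp_apply]; exact Scheme.fromSpecResidueField_apply q _
    subst hqp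
    let e := Spec.map ((pullback.diagonal g).residueFieldMap p)
    have he : e ≫ (pullback g g).fromSpecResidueField (pullback.diagonal g p) = V.fromSpecResidueField p ≫ pullback.diagonal g :=
      Scheme.Hom.SpecMap_residueFieldMap_fromSpecResidueField (pullback.diagonal g) p
    haveI : Subsingleton ↥(Spec ((pullback g g).residueField (pullback.diagonal g p))) :=
      inferInstanceAs (Subsingleton (PrimeSpectrum _))
    haveI : Surjective e := ⟨fun x => ⟨IsLocalRing.closedPoint _, Subsingleton.elim _ _⟩⟩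
    haveI : Flat e := inferInstance
    haveI : Epi e := Flat.epi_of_flat_of_surjective e
    have hfs : (pullback g g).fromSpecResidueField (pullback.diagonal g p) ≫ pullback.fst g g =
        (pullback g g).fromSpecResidueField (pullback.diagonal g p) ≫ pullback.snd g g := by
      rw [← cancel_epi e, reassoc_of% he, reassoc_of% he]
      simp
    rw [← hq, Category.assoc, Category.assoc, hfs]
  · intro h
    refine ⟨(t ≫ pullback.fst g g) (IsLocalRing.closedPoint K), ?_⟩
    rw [← Scheme.Hom.comp_apply]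
    congr 1
    have : (t ≫ pullback.fst g g) ≫ pullback.diagonal g = t := by
      apply pullback.hom_ext
      · simp
      · simp [h]
    rw [this]

omit [LocallyOfFinitePresentation G.hom] in
/-- Translation is injective on points. -/
theorem act_left_cancel {T : Over S} (g : T ⟶ G) (x y : T ⟶ X) (h : lift g x ≫ a.act = lift g y ≫ a.act) : x = y := by
  have h1 := AlgGrpBasic19.act_mul a g⁻¹ g x
  have h2 := AlgGrpBasic19.act_mul a g⁻¹ g y
  rw [inv_mul_cancel, AlgGrpBasic19.act_one] at h1 h2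
  rw [h1, h2, h]

theorem isSeparated_actSet (hd : ConstDimGen G)
    (hu : ∀ x ∈ SGA3x.neutralSet G, EGA43.IsUnivOpenAt G.hom x) (U : X.left.Opens) (hU : IsSeparated (U.ι ≫ X.hom)) :
    ∃ V : X.left.Opens, (V : Set X.left) = actSet a U ∧ IsSeparated (V.ι ≫ X.hom) := by
  let V : X.left.Opens := ⟨actSet a U, isOpen_actSet a hd U⟩
  refine ⟨V, rfl, ?_⟩
  let g := V.ι ≫ X.hom
  haveI : IsClosedImmersion (pullback.diagonal g) := by
    refine IsClosedImmersion.of_isPreimmersion _ ?_
    rw [← isOpen_compl_iff]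
    refine isOpen_iff_forall_mem_open.2 fun q hq => ?_
    let Y : Over S := Over.mk (pullback.fst g g ≫ g)
    let pa : Y ⟶ X := Over.homMk (pullback.fst g g ≫ V.ι) (by simp [Y, g])
    let pb : Y ⟶ X := Over.homMk (pullback.snd g g ≫ V.ι) (by simp [Y, g, pullback.condition])
    let r₁ : G ⊗ Y ⟶ X := (G ◁ pa) ≫ a.act
    let r₂ : G ⊗ Y ⟶ X := (G ◁ pb) ≫ a.act
    haveI : LocallyOfFinitePresentation (Red.bc Y.hom G).hom :=
      inferInstanceAs (LocallyOfFinitePresentation (pullback.snd G.hom Y.hom))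
    have hN : ∀ z : (G ⊗ Y).left, (fst G Y).left z ∈ SGA3x.neutralSet G ↔ z ∈ SGA3x.neutralSet (Red.bc Y.hom G) :=
      fun z => neutralSet_fst z
    -- points over `q` moving either coordinate into `U`
    have hex : ∀ p : Y ⟶ X, p.left q ∈ V → ∃ z : (G ⊗ Y).left, (fst G Y).left z ∈ SGA3x.neutralSet G ∧
        (snd G Y).left z = q ∧ ((G ◁ p) ≫ a.act).left z ∈ U := by
      intro p hp
      obtain ⟨w, h1, h2, h3⟩ := exists_moving a hp
      obtain ⟨z, hz1, hz2⟩ := Scheme.exists_preimage_of_isPullback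
        ((AbRigid.isPullback_whiskerLeft p G).map (Over.forget S)) q w h2.symm
      refine ⟨z, ?_, hz1, ?_⟩
      · rw [← whiskerLeft_fst, hap, show (G ◁ p).left z = w from hz2]; exact h1
      · rw [hap, show (G ◁ p).left z = w from hz2]; exact h3
    obtain ⟨z₁, hz₁N, hz₁q, hz₁U⟩ := hex pa (pullback.fst g g q).2
    obtain ⟨z₂, hz₂N, hz₂q, hz₂U⟩ := hex pb (pullback.snd g g q).2
    let C := connectedComponentIn ((Red.bc Y.hom G).hom ⁻¹' {q}) (η[Red.bc Y.hom G].left q)
    have hC : ∀ z, (fst G Y).left z ∈ SGA3x.neutralSet G → (snd G Y).left z = q → z ∈ C := by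
      intro z h1 h2
      have h := (mem_iff (Red.bc Y.hom G) z).1 ((hN z).1 h1)
      rwa [show (Red.bc Y.hom G).hom z = q from h2] at h
    obtain ⟨w, hwC, hw₁, hw₂⟩ := (isIrreducible_component _ (lft_fibres (Red.bc Y.hom G)) q).2
      ((r₁.left ⁻¹ᵁ U : (G ⊗ Y).left.Opens) : Set (G ⊗ Y).left) ((r₂.left ⁻¹ᵁ U : (G ⊗ Y).left.Opens) : Set (G ⊗ Y).left)
      (r₁.left ⁻¹ᵁ U).2 (r₂.left ⁻¹ᵁ U).2 ⟨z₁, hC z₁ hz₁N hz₁q, hz₁U⟩ ⟨z₂, hC z₂ hz₂N hz₂q, hz₂U⟩
    have hwq : (snd G Y).left w = q := connectedComponentIn_subset ((Red.bc Y.hom G).hom ⁻¹' {q}) _ hwC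
    have hwN : (fst G Y).left w ∈ SGA3x.neutralSet G := by
      rw [hN, mem_iff, show (Red.bc Y.hom G).hom w = q from hwq]; exact hwC
    let M : (G ⊗ Y).left.Opens := r₁.left ⁻¹ᵁ U ⊓ r₂.left ⁻¹ᵁ U
    let gU := U.ι ≫ X.hom
    let r₁' : M.toScheme ⟶ U.toScheme := IsOpenImmersion.lift U.ι (M.ι ≫ r₁.left) (by
      rintro _ ⟨m, rfl⟩; rw [Scheme.Opens.range_ι]; exact m.2.1)
    let r₂' : M.toScheme ⟶ U.toScheme := IsOpenImmersion.lift U.ι (M.ι ≫ r₂.left) (by
      rintro _ ⟨m, rfl⟩; rw [Scheme.Opens.range_ι]; exact m.2.2)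
    have hr₁ : r₁' ≫ U.ι = M.ι ≫ r₁.left := IsOpenImmersion.lift_fac _ _ _
    have hr₂ : r₂' ≫ U.ι = M.ι ≫ r₂.left := IsOpenImmersion.lift_fac _ _ _
    let R : M.toScheme ⟶ pullback gU gU := pullback.lift r₁' r₂' (by
      rw [reassoc_of% hr₁, reassoc_of% hr₂, Over.w r₁, Over.w r₂])
    -- translation compares the two diagonals
    have key : ∀ m : M.toScheme, R m ∈ Set.range (pullback.diagonal gU) ↔
        (snd G Y).left (M.ι m) ∈ Set.range (pullback.diagonal g) := by
      intro m
      let K : Type u := M.toScheme.residueField m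
      let tM : Spec (CommRingCat.of K) ⟶ M.toScheme := M.toScheme.fromSpecResidueField m
      let ty : Spec (CommRingCat.of K) ⟶ pullback g g := tM ≫ M.ι ≫ (snd G Y).left
      have h1 : R m = (tM ≫ R) (IsLocalRing.closedPoint K) := by
        rw [Scheme.Hom.comp_apply]
        exact congrArg _ (Scheme.fromSpecResidueField_apply m _).symm
      have h2 : (snd G Y).left (M.ι m) = ty (IsLocalRing.closedPoint K) := by
        simp only [ty, Scheme.Hom.comp_apply]
        exact congrArg (fun x => (snd G Y).left (M.ι x)) (Scheme.fromSpecResidueField_apply m _).symm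
      rw [h1, h2, mem_range_diagonal_iff, mem_range_diagonal_iff]
      let T : Over S := Over.mk ((tM ≫ M.ι) ≫ (G ⊗ Y).hom)
      let π : T ⟶ G ⊗ Y := Over.homMk (tM ≫ M.ι) rfl
      have e1 : ∀ (p : Y ⟶ X), π ≫ (G ◁ p) ≫ a.act = lift (π ≫ fst G Y) (π ≫ snd G Y ≫ p) ≫ a.act := by
        intro p
        rw [← Category.assoc]
        congr 1
        apply CartesianMonoidalCategory.hom_ext <;> simp
      have hiff : π ≫ r₁ = π ≫ r₂ ↔ π ≫ snd G Y ≫ pa = π ≫ snd G Y ≫ pb := by
        simp only [r₁, r₂, e1]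
        exact ⟨act_left_cancel a _ _ _, fun h => by rw [h]⟩
      constructor
      · intro h
        have := hiff.1 (by
          ext
          show (tM ≫ M.ι) ≫ r₁.left = (tM ≫ M.ι) ≫ r₂.left
          rw [Category.assoc, Category.assoc, ← hr₁, ← hr₂]
          simp only [← Category.assoc]
          congr 1
          simpa [R] using h)
        rw [← cancel_mono V.ι]
        simpa [ty, pa, pb, π] using congrArg (fun φ => φ.left) this
      · intro h
        have := hiff.2 (by
          ext
          show (tM ≫ M.ι) ≫ (snd G Y).left ≫ pullback.fst g g ≫ V.ι = (tM ≫ M.ι) ≫ (snd G Y).left ≫ pullback.snd g g ≫ V.ι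
          simp only [← Category.assoc]
          congr 1)
        rw [← cancel_mono U.ι]
        simp only [R, Category.assoc, pullback.lift_fst, pullback.lift_snd, hr₁, hr₂]
        simpa [π] using congrArg (fun φ => φ.left) this
    haveI : IsClosedImmersion (pullback.diagonal gU) := inferInstance
    let O : M.toScheme.Opens := ⟨(R ⁻¹' Set.range (pullback.diagonal gU))ᶜ,
      ((pullback.diagonal gU).isClosedEmbedding.isClosed_range.preimage R.continuous).isOpen_compl⟩
    let m : M.toScheme := ⟨w, hw₁, hw₂⟩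
    have hmO : m ∈ O := fun h => hq (hwq ▸ (key m).1 h)
    refine ⟨interior ((snd G Y).left '' (M.ι ''ᵁ O : Set (G ⊗ Y).left)), ?_, isOpen_interior, ?_⟩
    · rintro q' hq' hd'
      obtain ⟨_, ⟨m', hm', rfl⟩, rfl⟩ := interior_subset hq'
      exact hm' ((key m').2 hd')
    · rw [mem_interior_iff_mem_nhds, ← hwq]
      exact hu _ hwN Y.left Y.hom w rfl _ ((M.ι ''ᵁ O).2.mem_nhds ⟨m, hmO, rfl⟩)
  exact ⟨inferInstance⟩

end Groth.Agent.GrpNeutral20
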