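import Groth.Agent.Lib.GeomIrr18.Top
import Groth.Agent.Lib.GrpField.Component
import Groth.Agent.Lib.AbRigid.Shear
import Groth.Agent.Lib.AbSchRigid22.Basic
import Groth.Prelude.Def_SGA3x
import Groth.Prelude.Def_Red

/-!
# The union of the neutral components of the fibres
-/

universe u

open CategoryTheory Limits MonoidalCategory CartesianMonoidalCategory AlgebraicGeometry Topology
open scoped MonObj GrpObj

set_option linter.style.haveILetI false
set_option backward.isDefEq.respectTransparency false

namespace Groth.Agent.GrpNeutral20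

variable {S : Scheme.{u}}

instance (s : S) : Subsingleton ↥(Spec (S.residueField s)) :=
  inferInstanceAs (Subsingleton (PrimeSpectrum (S.residueField s)))

theorem hap {A B C : Over S} (f : A ⟶ B) (g : B ⟶ C) (p : A.left) : (f ≫ g).left p = g.left (f.left p) := by
  rw [Over.comp_left, Scheme.Hom.comp_apply]

/-- The preimage of the component of a section in a base change to a field is connected. -/
theorem preimage_component {k : Type u} [Field k] {X : Scheme.{u}} (f : X ⟶ Spec (CommRingCat.of k))
    (e : Spec (CommRingCat.of k) ⟶ X) (he : e ≫ f = 𝟙 _) (K : Type u) [Field K] [Algebra k K] :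
    _root_.IsConnected (pullback.fst f (Spec.map (CommRingCat.ofHom (algebraMap k K))) ⁻¹'
      connectedComponent (e (IsLocalRing.closedPoint k))) := by
  haveI : GeometricallyConnected (e ≫ f) := by rw [he]; exact AbSchRigid22.geometricallyConnected_id _
  have hr : Set.range e = {e (IsLocalRing.closedPoint k)} :=
    Set.Subset.antisymm (by rintro _ ⟨p, rfl⟩; rw [Subsingleton.elim (α := PrimeSpectrum k) p (IsLocalRing.closedPoint k)]; rfl)
      (by rintro _ rfl; exact ⟨_, rfl⟩)
  refine GeomIrr.isConnected_preimage f isPreconnected_connectedComponent isClosed_connectedComponent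
    mem_connectedComponent _ (GeomIrr.isConnected_preimage_range f e (SeparableClosure k)).isPreconnected ?_ ?_ K
  · exact Set.preimage_mono (hr.le.trans (Set.singleton_subset_iff.2 mem_connectedComponent))
  · exact Set.preimage_mono hr.ge

/-- The component of a section in its fibre. -/
theorem fiberι_mem_iff {X : Scheme.{u}} (f : X ⟶ S) (s : S) (w e : ↥(f.fiber s)) :
    f.fiberι s w ∈ connectedComponentIn (f ⁻¹' {s}) (f.fiberι s e) ↔ w ∈ connectedComponent e := by
  have h := (f.fiberι s).isEmbedding.isInducing
  have hr := Scheme.Hom.range_fiberι f s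
  have he : f.fiberι s e ∈ f ⁻¹' {s} := hr.le ⟨e, rfl⟩
  constructor
  · intro hw
    have hsub := connectedComponentIn_subset (f ⁻¹' {s}) (f.fiberι s e)
    have hc : _root_.IsPreconnected (f.fiberι s ⁻¹' connectedComponentIn (f ⁻¹' {s}) (f.fiberι s e)) := by
      rw [← h.isPreconnected_image, Set.image_preimage_eq_of_subset (hr ▸ hsub)]
      exact isPreconnected_connectedComponentIn
    exact hc.subset_connectedComponent (show e ∈ _ from mem_connectedComponentIn he) hw
  · intro hw
    refine (isPreconnected_connectedComponent.image _ (f.fiberι s).continuous.continuousOn).subset_connectedComponentIn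
      ⟨e, mem_connectedComponent, rfl⟩ ?_ ⟨w, hw, rfl⟩
    rintro _ ⟨a, -, rfl⟩
    exact hr.le ⟨a, rfl⟩

variable (G : Over S) [GrpObj G]

theorem unit_over (s : S) : G.hom (η[G].left s) = s := by
  rw [← Scheme.Hom.comp_apply, Over.w η[G]]; rfl

theorem mem_iff (x : G.left) :
    x ∈ SGA3x.neutralSet G ↔ x ∈ connectedComponentIn (G.hom ⁻¹' {G.hom x}) (η[G].left (G.hom x)) := by
  constructor
  · intro h
    obtain ⟨p, hp⟩ := Set.mem_iUnion.1 h
    have e : G.hom x = p := Set.mem_singleton_iff.1 (show G.hom x ∈ ({(p : S)} : Set S) from connectedComponentIn_subset (G.hom ⁻¹' {(p : S)}) _ hp)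
    rw [e]
    exact hp
  · exact fun h => Set.mem_iUnion.2 ⟨G.hom x, h⟩

theorem unit_mem (s : S) : η[G].left s ∈ SGA3x.neutralSet G := by
  rw [mem_iff, unit_over]
  exact mem_connectedComponentIn (unit_over G s)

/-- The neutral components after a base change to a field. -/
theorem preimage_neutralSet {K : Type u} [Field K] {y : Spec (CommRingCat.of K) ⟶ S} {P : Scheme.{u}}
    {q : P ⟶ G.left} {p : P ⟶ Spec (CommRingCat.of K)} (h : IsPullback q p G.hom y)
    (e' : Spec (CommRingCat.of K) ⟶ P) (he₁ : e' ≫ q = y ≫ η[G].left) (he₂ : e' ≫ p = 𝟙 _) :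
    q ⁻¹' SGA3x.neutralSet G = connectedComponent (e' (IsLocalRing.closedPoint K)) := by
  obtain ⟨s, φ, rfl⟩ : ∃ (s : S) (φ : S.residueField s ⟶ CommRingCat.of K), Spec.map φ ≫ S.fromSpecResidueField s = y :=
    ⟨_, _, Scheme.descResidueField_stalkClosedPointTo_fromSpecResidueField K S y⟩
  algebraize [φ.hom]
  let f₀ := G.hom.fiberToSpecResidueField s
  let r : P ⟶ G.hom.fiber s := pullback.lift q (p ≫ Spec.map φ) (by rw [h.w, Category.assoc])
  have sqr : IsPullback r p f₀ (Spec.map φ) :=
    IsPullback.of_right (h₁₂ := pullback.fst G.hom (S.fromSpecResidueField s))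
      (by rw [pullback.lift_fst]; exact h) (pullback.lift_snd _ _ _) (IsPullback.of_hasPullback _ _)
  let e₀ : Spec (S.residueField s) ⟶ G.hom.fiber s :=
    pullback.lift (S.fromSpecResidueField s ≫ η[G].left) (𝟙 _) (by
      rw [Category.assoc, Over.w η[G]]; exact (Category.comp_id _).trans (Category.id_comp _).symm)
  have hs : ∀ w, G.hom (G.hom.fiberι s w) = s := fun w => (Scheme.Hom.range_fiberι G.hom s).le ⟨w, rfl⟩
  let pt := IsLocalRing.closedPoint K
  have hre : r (e' pt) = e₀ (Spec.map φ pt) := by
    rw [← Scheme.Hom.comp_apply, ← Scheme.Hom.comp_apply]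
    suffices e' ≫ r = Spec.map φ ≫ e₀ by rw [this]
    apply pullback.hom_ext
    · simp only [r, e₀, Category.assoc, pullback.lift_fst, he₁]
    · simp only [r, e₀, Category.assoc, pullback.lift_snd, reassoc_of% he₂, Category.comp_id]
  have hηe : η[G].left s = G.hom.fiberι s (r (e' pt)) := by
    rw [hre]
    show _ = (e₀ ≫ pullback.fst _ _) _
    rw [pullback.lift_fst, Scheme.Hom.comp_apply]
    exact congrArg _ (Scheme.fromSpecResidueField_apply s _).symm
  have hq : q ⁻¹' SGA3x.neutralSet G = r ⁻¹' connectedComponent (r (e' pt)) := by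
    ext z
    have hz : q z = G.hom.fiberι s (r z) := by
      show _ = (r ≫ pullback.fst _ _) z
      rw [pullback.lift_fst]
    rw [Set.mem_preimage, Set.mem_preimage, mem_iff, hz, hs, hηe, fiberι_mem_iff]
  rw [hq]
  refine Set.Subset.antisymm ?_ ?_
  · have hc := preimage_component (k := S.residueField s) f₀ e₀ (pullback.lift_snd _ _ _) K
    have e : r ⁻¹' connectedComponent (r (e' pt)) =
        sqr.isoPullback.hom.homeomorph ⁻¹' (pullback.fst f₀ (Spec.map φ) ⁻¹' connectedComponent (e₀ (IsLocalRing.closedPoint _))) := by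
      rw [hre, Subsingleton.elim (Spec.map φ pt) (IsLocalRing.closedPoint (S.residueField s))]
      ext z
      simp only [Set.mem_preimage]
      rw [show pullback.fst f₀ (Spec.map φ) (sqr.isoPullback.hom.homeomorph z) = r z from by
        show (sqr.isoPullback.hom ≫ pullback.fst f₀ (Spec.map φ)) z = _
        rw [sqr.isoPullback_hom_fst]]
    refine _root_.IsPreconnected.subset_connectedComponent ?_ mem_connectedComponent
    rw [e, sqr.isoPullback.hom.homeomorph.isPreconnected_preimage]
    exact hc.isPreconnected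
  · exact fun z hz => r.continuous.image_connectedComponent_subset _ ⟨z, hz, rfl⟩

/-- Formation of the neutral components commutes with base change. -/
theorem neutralSet_bc {S' : Scheme.{u}} (f : S' ⟶ S) :
    SGA3x.neutralSet (Red.bc f G) = pullback.fst G.hom f ⁻¹' SGA3x.neutralSet G := by
  ext x'
  let s' : S' := (Red.bc f G).hom x'
  let y := S'.fromSpecResidueField s'
  obtain ⟨z, hz⟩ : x' ∈ Set.range (pullback.fst (Red.bc f G).hom y) := by
    show x' ∈ Set.range ((Red.bc f G).hom.fiberι s')
    rw [Scheme.Hom.range_fiberι]; rfl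
  have sq1 := IsPullback.of_hasPullback (Red.bc f G).hom y
  have sq2 : IsPullback (pullback.fst (Red.bc f G).hom y ≫ pullback.fst G.hom f) (pullback.snd (Red.bc f G).hom y) G.hom (y ≫ f) :=
    sq1.paste_horiz (IsPullback.of_hasPullback G.hom f)
  let e' : Spec (S'.residueField s') ⟶ pullback (Red.bc f G).hom y :=
    pullback.lift (y ≫ η[Red.bc f G].left) (𝟙 _) (by
      rw [Category.assoc, Over.w η[Red.bc f G]]; exact (Category.comp_id _).trans (Category.id_comp _).symm)
  have hunit : η[Red.bc f G].left ≫ pullback.fst G.hom f = f ≫ η[G].left := by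
    show (Functor.LaxMonoidal.ε (Over.pullback f) ≫ (Over.pullback f).map η[G]).left ≫ _ = _
    rw [Over.comp_left, Category.assoc]
    simp
  have h1 := preimage_neutralSet (Red.bc f G) sq1 e' (pullback.lift_fst _ _ _) (pullback.lift_snd _ _ _)
  have h2 := preimage_neutralSet G sq2 e' (by rw [← Category.assoc, pullback.lift_fst, Category.assoc, hunit, Category.assoc])
    (pullback.lift_snd _ _ _)
  rw [← hz]
  show _ ↔ (pullback.fst (Red.bc f G).hom y ≫ pullback.fst G.hom f) z ∈ SGA3x.neutralSet G
  exact (Set.ext_iff.1 h1 z).trans (Set.ext_iff.1 h2 z).symm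

theorem inv_mem {x : G.left} (hx : x ∈ SGA3x.neutralSet G) : ι[G].left x ∈ SGA3x.neutralSet G := by
  have hh : ∀ a, G.hom (ι[G].left a) = G.hom a := fun a => by rw [← Scheme.Hom.comp_apply, Over.w ι[G]]
  rw [mem_iff] at hx ⊢
  rw [hh]
  refine (isPreconnected_connectedComponentIn.image _ ι[G].left.continuous.continuousOn).subset_connectedComponentIn
    ⟨_, mem_connectedComponentIn (unit_over G (G.hom x)), ?_⟩ ?_ ⟨x, hx, rfl⟩
  · rw [← hap, GrpObj.inv_eq_inv, GrpObj.comp_inv, Category.comp_id, MonObj.one_eq_one, inv_one]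
  · rintro _ ⟨a, ha, rfl⟩
    show G.hom _ = _
    rw [hh]
    exact connectedComponentIn_subset (G.hom ⁻¹' {G.hom x}) _ ha

/-- Products of points in the neutral components. -/
theorem mul_mem (z : (G ⊗ G).left) (h1 : (fst G G).left z ∈ SGA3x.neutralSet G)
    (h2 : (snd G G).left z ∈ SGA3x.neutralSet G) : μ[G].left z ∈ SGA3x.neutralSet G := by
  let x := (fst G G).left z
  let T : Over S := Over.mk (G.left.fromSpecResidueField x ≫ G.hom)
  let a : T ⟶ G := Over.homMk (G.left.fromSpecResidueField x) rfl
  obtain ⟨w, -, hw⟩ := Scheme.exists_preimage_of_isPullback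
    ((AbRigid.isPullback_whiskerRight a G).map (Over.forget S)) (IsLocalRing.closedPoint (G.left.residueField x) : Spec (G.left.residueField x))
    z (Scheme.fromSpecResidueField_apply x _)
  have sq : IsPullback (snd T G).left (fst T G).left G.hom T.hom := (IsPullback.of_hasPullback T.hom G.hom).flip
  let e' : T ⟶ T ⊗ G := lift (𝟙 T) 1
  have hc := preimage_neutralSet G (K := G.left.residueField x) (y := T.hom) sq e'.left
    (show e'.left ≫ (snd T G).left = _ by
      rw [← Over.comp_left, lift_snd, Hom.one_def, Over.comp_left]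
      congr 1)
    (show e'.left ≫ (fst T G).left = _ by rw [← Over.comp_left, lift_fst]; rfl)
  have hw' : (snd T G).left w ∈ SGA3x.neutralSet G := by
    rw [← show (a ▷ G).left w = z from hw, ← hap, whiskerRight_snd] at h2
    exact h2
  have hzm : μ[G].left z = ((a ▷ G) ≫ μ[G]).left w := by
    rw [hap, show (a ▷ G).left w = z from hw]
  have hover : ∀ v : (T ⊗ G).left, G.hom (((a ▷ G) ≫ μ[G]).left v) = G.hom x := fun v => by
    rw [← Scheme.Hom.comp_apply, Over.w ((a ▷ G) ≫ μ[G]), ← show (fst T G).left ≫ T.hom = (T ⊗ G).hom from Over.w (fst T G),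
      Scheme.Hom.comp_apply]
    show G.hom (G.left.fromSpecResidueField x _) = _
    rw [Scheme.fromSpecResidueField_apply]
  rw [hzm]
  let F := G.hom ⁻¹' {G.hom x}
  have hsub : ((a ▷ G) ≫ μ[G]).left '' connectedComponent (e'.left (IsLocalRing.closedPoint (G.left.residueField x))) ⊆
      connectedComponentIn F x := by
    refine (isPreconnected_connectedComponent.image _ (Scheme.Hom.continuous _).continuousOn).subset_connectedComponentIn
      ⟨_, mem_connectedComponent, ?_⟩ ?_
    · rw [← hap, show e' ≫ (a ▷ G) ≫ μ[G] = a by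
        rw [lift_whiskerRight_assoc, ← Hom.mul_def, Category.id_comp, mul_one]]
      exact Scheme.fromSpecResidueField_apply x _
    · rintro _ ⟨v, -, rfl⟩
      exact hover v
  rw [mem_iff, hover, connectedComponentIn_eq ((mem_iff G x).1 h1)]
  exact hsub ⟨w, hc.le hw', rfl⟩

variable (hG : ∀ s : S, LocallyOfFiniteType (G.hom.fiberToSpecResidueField s))

include hG in
/-- Over an algebraically closed field the neutral component is irreducible. -/
theorem isIrreducible_preimage {K : Type u} [Field K] [IsAlgClosed K] {y : Spec (CommRingCat.of K) ⟶ S} {P : Scheme.{u}}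
    {q : P ⟶ G.left} {p : P ⟶ Spec (CommRingCat.of K)} (h : IsPullback q p G.hom y) :
    IsIrreducible (q ⁻¹' SGA3x.neutralSet G) := by
  let e' : Spec (CommRingCat.of K) ⟶ P := h.lift (y ≫ η[G].left) (𝟙 _) (by
    rw [Category.assoc, Over.w η[G]]; exact (Category.comp_id _).trans (Category.id_comp _).symm)
  rw [preimage_neutralSet G h e' (h.lift_fst _ _ _) (h.lift_snd _ _ _)]
  let G' := (Over.pullback y).obj G
  letI : GrpObj G' := Functor.grpObjObj
  haveI : LocallyOfFiniteType G'.hom := by
    obtain ⟨s, φ, hφ⟩ : ∃ (s : S) (φ : S.residueField s ⟶ CommRingCat.of K), Spec.map φ ≫ S.fromSpecResidueField s = y :=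
      ⟨_, _, Scheme.descResidueField_stalkClosedPointTo_fromSpecResidueField K S y⟩
    subst hφ
    haveI := hG s
    show LocallyOfFiniteType (pullback.snd G.hom (Spec.map φ ≫ S.fromSpecResidueField s))
    have sq0 := IsPullback.of_hasPullback G.hom (Spec.map φ ≫ S.fromSpecResidueField s)
    exact MorphismProperty.of_isPullback (P := @LocallyOfFiniteType)
      (IsPullback.of_right (h₁₁ := pullback.lift (pullback.fst _ _) (pullback.snd _ _ ≫ Spec.map φ)
          (by rw [pullback.condition, Category.assoc])) (h₁₂ := pullback.fst G.hom (S.fromSpecResidueField s))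
        (by rw [pullback.lift_fst]; exact sq0) (pullback.lift_snd _ _ _)
        (IsPullback.of_hasPullback G.hom (S.fromSpecResidueField s))) (hG s)
  have hc := GrpField.isIrreducible_connectedComponent G' (h.isoPullback.hom (e' (IsLocalRing.closedPoint K)))
  let ψ := h.isoPullback.hom.homeomorph
  have e : connectedComponent (e' (IsLocalRing.closedPoint K)) = ψ ⁻¹' connectedComponent (ψ (e' (IsLocalRing.closedPoint K))) := by
    refine Set.Subset.antisymm (fun a ha => ψ.continuous.image_connectedComponent_subset _ ⟨a, ha, rfl⟩) ?_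
    exact (ψ.isPreconnected_preimage.2 isPreconnected_connectedComponent).subset_connectedComponent mem_connectedComponent
  rw [e, ← ψ.image_symm]
  exact hc.image _ ψ.symm.continuous.continuousOn

end Groth.Agent.GrpNeutral20
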