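import Groth.Agent.Lib.GrpNeutral20.Cons
import Groth.Agent.Lib.SectionCompGI4
import Groth.Agent.Lib.SectionCompOpen4
import Groth.Agent.Lib.GrpCM20.Basic

/-!
# Affine charts of the unit section
-/

universe u

open CategoryTheory Limits MonoidalCategory CartesianMonoidalCategory AlgebraicGeometry Topology
open scoped MonObj GrpObj

set_option linter.style.haveILetI false
set_option backward.isDefEq.respectTransparency false

namespace Groth.Agent.GrpNeutral20

theorem dim_image {X Y : Type*} [TopologicalSpace X] [TopologicalSpace Y] {e : X → Y} (he : IsEmbedding e) (A : Set X) :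
    topologicalKrullDim ↥(e '' A) = topologicalKrullDim ↥A :=
  (IsHomeomorph.topologicalKrullDim_eq _ (he.homeomorphImage A).isHomeomorph).symm

/-- The dimension of a fibre as a subspace. -/
theorem dim_preimage {X S : Scheme.{u}} (f : X ⟶ S) (s : S) :
    topologicalKrullDim ↥(f ⁻¹' {s}) = topologicalKrullDim ↥(f.fiber s) :=
  (IsHomeomorph.topologicalKrullDim_eq _ (f.fiberHomeo s).isHomeomorph).symm

variable {S : Scheme.{u}} (G : Over S) [GrpObj G]

/-- An affine open of the group containing the unit section over an affine open of the base. -/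
structure Chart (s : S) where
  V : S.Opens
  U : G.left.Opens
  hsV : s ∈ V
  hV : IsAffineOpen V
  hU : IsAffineOpen U
  hUV : U ≤ G.hom ⁻¹ᵁ V
  hη : ∀ v ∈ V, η[G].left v ∈ U

theorem exists_chart_le (U₁ : G.left.Opens) (s : S) (hs : η[G].left s ∈ U₁) :
    ∃ c : Chart G s, c.U ≤ U₁ := by
  obtain ⟨V₀, hV₀, hsV₀, -⟩ := exists_isAffineOpen_mem_and_subset (X := S) (x := s) (U := ⊤) trivial
  obtain ⟨U₀, hU₀, hsU₀, hUV₀'⟩ := exists_isAffineOpen_mem_and_subset (X := G.left) (x := η[G].left s)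
    (U := G.hom ⁻¹ᵁ V₀ ⊓ U₁) ⟨(show G.hom (η[G].left s) ∈ V₀ by rw [unit_over]; exact hsV₀), hs⟩
  have hUV₀ : U₀ ≤ G.hom ⁻¹ᵁ V₀ := fun x hx => (hUV₀' hx).1
  let V' : S.Opens := ⟨η[G].left ⁻¹' (U₀ : Set G.left) ∩ (V₀ : Set S), (U₀.2.preimage η[G].left.continuous).inter V₀.2⟩
  obtain ⟨V, hV, hsV, hVV'⟩ := exists_isAffineOpen_mem_and_subset (X := S) (x := s) (U := V') ⟨hsU₀, hsV₀⟩
  let f₀ := G.hom.resLE V₀ U₀ hUV₀
  haveI : IsAffine U₀.toScheme := hU₀
  haveI : IsAffine V₀.toScheme := hV₀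
  let U : G.left.Opens := U₀.ι ''ᵁ (f₀ ⁻¹ᵁ (V₀.ι ⁻¹ᵁ V))
  have hU : IsAffineOpen U := ((hV.preimage_of_isOpenImmersion V₀.ι (by
    rw [Scheme.Opens.opensRange_ι]; exact fun v hv => (hVV' hv).2)).preimage f₀).image_of_isOpenImmersion U₀.ι
  have hmemU : ∀ x, x ∈ U ↔ x ∈ U₀ ∧ G.hom x ∈ V := fun x => by
    have e : ∀ w, V₀.ι (f₀ w) = G.hom (U₀.ι w) := fun w => by
      rw [← Scheme.Hom.comp_apply, ← Scheme.Hom.comp_apply, Scheme.Hom.resLE_comp_ι]
    constructor
    · rintro ⟨w, hw, rfl⟩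
      exact ⟨w.2, (e w) ▸ hw⟩
    · exact fun ⟨h1, h2⟩ => ⟨⟨x, h1⟩, show V₀.ι (f₀ ⟨x, h1⟩) ∈ V from (e ⟨x, h1⟩).symm ▸ h2, rfl⟩
  exact ⟨⟨V, U, hsV, hV, hU, fun x hx => ((hmemU x).1 hx).2,
    fun v hv => (hmemU _).2 ⟨(hVV' hv).1, by rw [unit_over]; exact hv⟩⟩, fun x hx => (hUV₀' ((hmemU x).1 hx).1).2⟩

variable {G} {s : S} (c : Chart G s)

/-- The restricted structure morphism. -/
noncomputable def Chart.f : c.U.toScheme ⟶ c.V.toScheme := G.hom.resLE c.V c.U c.hUV

/-- The restricted unit section. -/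
noncomputable def Chart.σ : c.V.toScheme ⟶ c.U.toScheme := IsOpenImmersion.lift c.U.ι (c.V.ι ≫ η[G].left) (by
  rintro _ ⟨p, rfl⟩
  rw [Scheme.Opens.range_ι, Scheme.Hom.comp_apply]
  exact c.hη _ p.2)

theorem Chart.f_ι : c.f ≫ c.V.ι = c.U.ι ≫ G.hom := Scheme.Hom.resLE_comp_ι _ _

theorem Chart.f_apply (w : c.U.toScheme) : c.V.ι (c.f w) = G.hom (c.U.ι w) := by
  rw [← Scheme.Hom.comp_apply, ← Scheme.Hom.comp_apply, c.f_ι]

theorem Chart.σ_ι : c.σ ≫ c.U.ι = c.V.ι ≫ η[G].left := IsOpenImmersion.lift_fac _ _ _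

theorem Chart.σ_apply (v : c.V.toScheme) : c.U.ι (c.σ v) = η[G].left (c.V.ι v) := by
  rw [← Scheme.Hom.comp_apply, c.σ_ι, Scheme.Hom.comp_apply]; rfl

theorem Chart.σ_f : c.σ ≫ c.f = 𝟙 _ := by
  rw [← cancel_mono c.V.ι, Category.assoc, c.f_ι, reassoc_of% c.σ_ι, Over.w η[G], Category.id_comp]
  exact Category.comp_id _

instance : IsAffine c.U.toScheme := c.hU
instance : IsAffine c.V.toScheme := c.hV
instance : IsAffineHom c.f := isAffineHom_of_isAffine _

instance [LocallyOfFinitePresentation G.hom] : LocallyOfFinitePresentation c.f := by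
  delta Chart.f; infer_instance

variable (hG : ∀ s : S, LocallyOfFiniteType (G.hom.fiberToSpecResidueField s))

include hG in
theorem Chart.component_eq (v : c.V.toScheme) :
    connectedComponentIn (c.f ⁻¹' {v}) (c.σ v) =
      c.U.ι ⁻¹' connectedComponentIn (G.hom ⁻¹' {c.V.ι v}) (η[G].left (c.V.ι v)) := by
  ext w
  constructor
  · intro hw
    refine (isPreconnected_connectedComponentIn.image _ c.U.ι.continuous.continuousOn).subset_connectedComponentIn
      ⟨c.σ v, mem_connectedComponentIn (show c.f (c.σ v) = v by rw [← Scheme.Hom.comp_apply, c.σ_f]; rfl), c.σ_apply _⟩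
      ?_ ⟨w, hw, rfl⟩
    rintro _ ⟨b, hb, rfl⟩
    show G.hom _ = _
    rw [← c.f_apply, show c.f b = v from connectedComponentIn_subset (c.f ⁻¹' {v}) _ hb]
  · intro hw
    refine (((isIrreducible_component G hG _).2.preimage c.U.ι.isOpenEmbedding).isPreconnected).subset_connectedComponentIn
      (show c.U.ι (c.σ v) ∈ connectedComponentIn (G.hom ⁻¹' {c.V.ι v}) (η[G].left (c.V.ι v)) from ?_) ?_ hw
    · rw [c.σ_apply]; exact mem_connectedComponentIn (unit_over G _)
    · intro b hb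
      show c.f b = v
      apply c.V.ι.isOpenEmbedding.injective
      rw [c.f_apply]
      exact connectedComponentIn_subset (G.hom ⁻¹' {c.V.ι v}) _ hb

include hG in
theorem Chart.sectionComponents_eq :
    MoreMor.sectionComponents c.f c.σ = c.U.ι ⁻¹' SGA3x.neutralSet G := by
  ext w
  show w ∈ connectedComponentIn (c.f ⁻¹' {c.f w}) (c.σ (c.f w)) ↔ _
  rw [c.component_eq hG, Set.mem_preimage, Set.mem_preimage, mem_iff, c.f_apply]

include hG in
theorem Chart.gi (v : c.V.toScheme) : SectionCompGI4.GI c.f c.σ v := by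
  let L := AlgebraicClosure (c.V.toScheme.residueField v)
  let t : Spec (CommRingCat.of L) ⟶ c.V.toScheme :=
    Spec.map (CommRingCat.ofHom (algebraMap (c.V.toScheme.residueField v) L)) ≫ c.V.toScheme.fromSpecResidueField v
  have htv : t (IsLocalRing.closedPoint L : Spec (CommRingCat.of L)) = v := by
    rw [Scheme.Hom.comp_apply]; exact Scheme.fromSpecResidueField_apply v _
  rw [SectionCompGI4.gi_iff_point c.f c.σ t htv]
  let y := t ≫ c.V.ι
  have hirr := isIrreducible_preimage G hG (IsPullback.of_hasPullback G.hom y)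
  let j : pullback c.f t ⟶ pullback G.hom y :=
    pullback.map c.f t G.hom y c.U.ι (𝟙 _) c.V.ι c.f_ι (Category.id_comp _).symm
  haveI : IsOpenImmersion j := inferInstance
  have hy : ∀ p, y p = c.V.ι v := fun p => by
    haveI : Subsingleton ↥(Spec (CommRingCat.of L)) := inferInstanceAs (Subsingleton (PrimeSpectrum L))
    rw [Subsingleton.elim p (IsLocalRing.closedPoint L), Scheme.Hom.comp_apply, htv]
  have e : pullback.fst c.f t ⁻¹' connectedComponentIn (c.f ⁻¹' {v}) (c.σ v) =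
      j ⁻¹' (pullback.fst G.hom y ⁻¹' SGA3x.neutralSet G) := by
    ext z
    have h1 : pullback.fst G.hom y (j z) = c.U.ι (pullback.fst c.f t z) := by
      rw [← Scheme.Hom.comp_apply, pullback.lift_fst, Scheme.Hom.comp_apply]
    have h2 : G.hom (c.U.ι (pullback.fst c.f t z)) = c.V.ι v := by
      rw [← h1, ← Scheme.Hom.comp_apply, pullback.condition, Scheme.Hom.comp_apply, hy]
    rw [Set.mem_preimage, Set.mem_preimage, Set.mem_preimage, c.component_eq hG, Set.mem_preimage, h1, mem_iff, h2]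
  refine ⟨?_, e ▸ hirr.2.preimage j.isOpenEmbedding⟩
  obtain ⟨z, hz, -⟩ := Scheme.Pullback.exists_preimage_pullback (f := c.f) (g := t) (c.σ v) (IsLocalRing.closedPoint L)
    (by rw [← Scheme.Hom.comp_apply, c.σ_f, htv]; rfl)
  exact ⟨z, by rw [Set.mem_preimage, hz]; exact mem_connectedComponentIn (show c.f (c.σ v) = v by rw [← Scheme.Hom.comp_apply, c.σ_f]; rfl)⟩

include hG in
/-- The component in the chart has the dimension of the fibre of the group. -/
theorem Chart.dim_component (v : c.V.toScheme) :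
    topologicalKrullDim ↥(connectedComponentIn (c.f ⁻¹' {v}) (c.σ v)) =
      topologicalKrullDim ↥(G.hom ⁻¹' {c.V.ι v}) := by
  let s' := c.V.ι v
  let F := Over.pullback (S.fromSpecResidueField s')
  letI : GrpObj (F.obj G) := Functor.grpObjObj
  haveI : LocallyOfFiniteType (F.obj G).hom := hG s'
  haveI : LocallyConnectedSpace (F.obj G).left :=
    haveI := LocallyOfFiniteType.isLocallyNoetherian (F.obj G).hom
    SectionCompOpen4.locallyConnectedSpace _
  obtain ⟨e₀, he₀⟩ : η[G].left s' ∈ Set.range (G.hom.fiberι s') := by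
    rw [Scheme.Hom.range_fiberι]; exact unit_over G s'
  let O : (F.obj G).left.Opens :=
    ⟨G.hom.fiberι s' ⁻¹' (c.U : Set G.left) ∩ connectedComponent e₀,
      (c.U.2.preimage (G.hom.fiberι s').continuous).inter (isOpen_connectedComponent (α := ↥(F.obj G).left) (x := e₀))⟩
  have hO : (O : Set (F.obj G).left).Nonempty :=
    ⟨e₀, by show G.hom.fiberι s' e₀ ∈ c.U; rw [he₀]; exact c.hη _ v.2, mem_connectedComponent⟩
  rw [dim_preimage G.hom s']
  change _ = topologicalKrullDim ↥(F.obj G).left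
  rw [← GrpCM20.dim_opens (F.obj G) O hO,
    ← dim_image c.U.ι.isOpenEmbedding.isEmbedding]
  refine Eq.trans ?_ (dim_image (G.hom.fiberι s').isEmbedding (O : Set (F.obj G).left))
  have key : c.U.ι '' connectedComponentIn (c.f ⁻¹' {v}) (c.σ v) = G.hom.fiberι s' '' (O.carrier) := by
    rw [c.component_eq hG, Set.image_preimage_eq_inter_range, Scheme.Opens.range_ι]
    ext x
    constructor
    · rintro ⟨hx, hxU⟩
      obtain ⟨z, rfl⟩ : x ∈ Set.range (G.hom.fiberι s') := by
        rw [Scheme.Hom.range_fiberι]; exact connectedComponentIn_subset (G.hom ⁻¹' {s'}) _ hx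
      rw [← he₀, fiberι_mem_iff] at hx
      exact ⟨z, ⟨hxU, hx⟩, rfl⟩
    · rintro ⟨z, ⟨h1, h2⟩, rfl⟩
      refine ⟨?_, h1⟩
      rw [← he₀]
      exact (fiberι_mem_iff G.hom s' z e₀).2 h2
  rw [key]
  rfl

end Groth.Agent.GrpNeutral20
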