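import Groth.Agent.Lib.GrpNeutral20.Div
import Groth.Agent.S1326
import Groth.Agent.Lib.SchBasic.Basic
import Groth.Prelude.Def_ProCons

/-!
# Constructibility of the union of the neutral components
-/

universe u

open CategoryTheory Limits MonoidalCategory CartesianMonoidalCategory AlgebraicGeometry Topology
open scoped MonObj GrpObj

set_option linter.style.haveILetI false
set_option backward.isDefEq.respectTransparency false

namespace Groth.Agent.GrpNeutral20

variable {S : Scheme.{u}} (G : Over S) [GrpObj G]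

/-- The neutral component of a fibre is irreducible. -/
theorem isIrreducible_component (hG : ∀ s : S, LocallyOfFiniteType (G.hom.fiberToSpecResidueField s)) (s : S) :
    IsIrreducible (connectedComponentIn (G.hom ⁻¹' {s}) (η[G].left s)) := by
  let K := AlgebraicClosure (S.residueField s)
  let y : Spec (CommRingCat.of K) ⟶ S :=
    Spec.map (CommRingCat.ofHom (algebraMap (S.residueField s) K)) ≫ S.fromSpecResidueField s
  have hy : ∀ p, y p = s := fun p => by
    rw [Scheme.Hom.comp_apply]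
    exact Scheme.fromSpecResidueField_apply s _
  have h := (isIrreducible_preimage G hG (IsPullback.of_hasPullback G.hom y)).image (pullback.fst G.hom y)
    (Scheme.Hom.continuous _).continuousOn
  convert h using 1
  rw [Set.image_preimage_eq_inter_range, Scheme.Pullback.range_fst]
  ext x
  constructor
  · intro hx
    have e : G.hom x = s := connectedComponentIn_subset (G.hom ⁻¹' {s}) _ hx
    exact ⟨by rw [mem_iff, e]; exact hx, IsLocalRing.closedPoint K, (hy _).trans e.symm⟩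
  · rintro ⟨hx, p, hp⟩
    rw [hy] at hp
    rw [mem_iff, ← hp] at hx
    exact hx

variable [LocallyOfFinitePresentation G.hom]

omit [GrpObj G] in
theorem lft_fibres (s : S) : LocallyOfFiniteType (G.hom.fiberToSpecResidueField s) :=
  inferInstanceAs (LocallyOfFiniteType (pullback.snd _ _))

/-- Locally on the base the neutral components are the image of a constructible subset of an affine scheme. -/
theorem exists_chart (s : S) :
    ∃ (V : S.Opens) (Z : Scheme.{u}) (D : Z ⟶ G.left) (M : Set Z), s ∈ V ∧ IsAffineOpen V ∧ IsAffine Z ∧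
      LocallyOfFinitePresentation D ∧ IsConstructible M ∧ D '' M = SGA3x.neutralSet G ∩ G.hom ⁻¹' V ∧
      Set.range D ⊆ G.hom ⁻¹' V := by
  obtain ⟨V₀, hV₀, hsV₀, -⟩ := exists_isAffineOpen_mem_and_subset (X := S) (x := s) (U := ⊤) trivial
  obtain ⟨U₀, hU₀, hsU₀, hUV₀⟩ := exists_isAffineOpen_mem_and_subset (X := G.left) (x := η[G].left s)
    (U := G.hom ⁻¹ᵁ V₀) (by show G.hom _ ∈ V₀; rw [unit_over]; exact hsV₀)
  let V' : S.Opens := ⟨η[G].left ⁻¹' (U₀ : Set G.left) ∩ (V₀ : Set S), (U₀.2.preimage η[G].left.continuous).inter V₀.2⟩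
  obtain ⟨V, hV, hsV, hVV'⟩ := exists_isAffineOpen_mem_and_subset (X := S) (x := s) (U := V') ⟨hsU₀, hsV₀⟩
  let f₀ := G.hom.resLE V₀ U₀ hUV₀
  haveI : IsAffine U₀.toScheme := hU₀
  haveI : IsAffine V₀.toScheme := hV₀
  let U : G.left.Opens := U₀.ι ''ᵁ (f₀ ⁻¹ᵁ (V₀.ι ⁻¹ᵁ V))
  have hU : IsAffineOpen U := ((hV.preimage_of_isOpenImmersion V₀.ι (by
    rw [Scheme.Opens.opensRange_ι]; exact fun v hv => (hVV' hv).2)).preimage f₀).image_of_isOpenImmersion U₀.ι
  have hmemU : ∀ x, x ∈ U ↔ x ∈ U₀ ∧ G.hom x ∈ V := fun x => by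
    have e : ∀ w, V₀.ι (f₀ w) = G.hom (U₀.ι w) := fun w => by
      rw [← Scheme.Hom.comp_apply, ← Scheme.Hom.comp_apply, Scheme.Hom.resLE_comp_ι]
    constructor
    · rintro ⟨w, hw, rfl⟩
      exact ⟨w.2, (e w) ▸ hw⟩
    · exact fun ⟨h1, h2⟩ => ⟨⟨x, h1⟩, show V₀.ι (f₀ ⟨x, h1⟩) ∈ V from (e ⟨x, h1⟩).symm ▸ h2, rfl⟩
  have hUV : U ≤ G.hom ⁻¹ᵁ V := fun x hx => ((hmemU x).1 hx).2
  haveI : IsAffine U.toScheme := hU
  haveI : IsAffine V.toScheme := hV
  let f := G.hom.resLE V U hUV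
  have hηU : ∀ v ∈ V, η[G].left v ∈ U := fun v hv =>
    (hmemU _).2 ⟨(hVV' hv).1, by rw [unit_over]; exact hv⟩
  let σ : V.toScheme ⟶ U.toScheme := IsOpenImmersion.lift U.ι (V.ι ≫ η[G].left) (by
    rintro _ ⟨p, rfl⟩
    rw [Scheme.Opens.range_ι, Scheme.Hom.comp_apply]
    exact hηU _ p.2)
  have hσι : σ ≫ U.ι = V.ι ≫ η[G].left := IsOpenImmersion.lift_fac _ _ _
  have hσ : σ ≫ f = 𝟙 _ := by
    rw [← cancel_mono V.ι, Category.assoc, Scheme.Hom.resLE_comp_ι, reassoc_of% hσι, Over.w η[G], Category.id_comp]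
    exact Category.comp_id _
  have hfι : ∀ w, V.ι (f w) = G.hom (U.ι w) := fun w => by
    rw [← Scheme.Hom.comp_apply, ← Scheme.Hom.comp_apply, Scheme.Hom.resLE_comp_ι]
  have hσv : ∀ v, U.ι (σ v) = η[G].left (V.ι v) := fun v => by
    rw [← Scheme.Hom.comp_apply, hσι, Scheme.Hom.comp_apply]; rfl
  have hM₀ : MoreMor.sectionComponents f σ = U.ι ⁻¹' SGA3x.neutralSet G := by
    ext w
    show w ∈ connectedComponentIn (f ⁻¹' {f w}) (σ (f w)) ↔ _
    rw [Set.mem_preimage, mem_iff, ← hfι]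
    set C := connectedComponentIn (G.hom ⁻¹' {V.ι (f w)}) (η[G].left (V.ι (f w))) with hC
    constructor
    · intro hw
      refine (isPreconnected_connectedComponentIn.image _ U.ι.continuous.continuousOn).subset_connectedComponentIn
        ⟨σ (f w), mem_connectedComponentIn (show f (σ (f w)) = f w by rw [← Scheme.Hom.comp_apply, hσ]; rfl), hσv _⟩
        ?_ ⟨w, hw, rfl⟩
      rintro _ ⟨b, hb, rfl⟩
      show G.hom _ = _
      rw [← hfι, show f b = f w from connectedComponentIn_subset (f ⁻¹' {f w}) _ hb]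
    · intro hw
      have hirr : IsIrreducible C := isIrreducible_component G (lft_fibres G) _
      have hpre : _root_.IsPreconnected (U.ι ⁻¹' C) :=
        (hirr.2.preimage U.ι.isOpenEmbedding).isPreconnected
      refine hpre.subset_connectedComponentIn (show U.ι (σ (f w)) ∈ C from ?_) ?_ hw
      · rw [hσv]; exact mem_connectedComponentIn (unit_over G _)
      · intro b hb
        show f b = f w
        apply V.ι.isOpenEmbedding.injective
        rw [hfι]
        exact connectedComponentIn_subset (G.hom ⁻¹' {V.ι (f w)}) _ hb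
  have hcons : IsConstructible (U.ι ⁻¹' SGA3x.neutralSet G) := by
    rw [← hM₀]
    exact (Groth.Agent.S1326.result f σ hσ).isConstructible
  let j : pullback f f ⟶ (G ⊗ G).left :=
    pullback.map f f G.hom G.hom U.ι U.ι V.ι (G.hom.resLE_comp_ι hUV) (G.hom.resLE_comp_ι hUV)
  let D : pullback f f ⟶ G.left := j ≫ ((𝟙 G ⊗ₘ ι[G]) ≫ μ[G]).left
  have hD : D ≫ G.hom = pullback.fst f f ≫ f ≫ V.ι := by
    simp only [D, Category.assoc, Over.w ((𝟙 G ⊗ₘ ι[G]) ≫ μ[G]), j]
    rw [show (G ⊗ G).hom = pullback.fst G.hom G.hom ≫ G.hom from rfl, pullback.lift_fst_assoc, Category.assoc,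
      Scheme.Hom.resLE_comp_ι]
  have hj : Set.range j = (fst G G).left ⁻¹' U ∩ (snd G G).left ⁻¹' U := by
    refine (Scheme.Pullback.range_map _ _ _ _ U.ι U.ι V.ι _ _).trans ?_
    rw [Scheme.Opens.range_ι]
    rfl
  have hj1 : ∀ z, (fst G G).left (j z) = U.ι (pullback.fst f f z) := fun z => by
    show (j ≫ pullback.fst G.hom G.hom) z = _
    rw [pullback.lift_fst]; rfl
  have hj2 : ∀ z, (snd G G).left (j z) = U.ι (pullback.snd f f z) := fun z => by
    show (j ≫ pullback.snd G.hom G.hom) z = _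
    rw [pullback.lift_snd]; rfl
  have hrD : Set.range D ⊆ G.hom ⁻¹' (V : Set S) := by
    rintro _ ⟨z, rfl⟩
    rw [Set.mem_preimage, ← Scheme.Hom.comp_apply, hD]
    exact (f (pullback.fst f f z)).2
  haveI : LocallyOfFinitePresentation (D ≫ G.hom) := by rw [hD]; infer_instance
  refine ⟨V, pullback f f, D,
    pullback.fst f f ⁻¹' (U.ι ⁻¹' SGA3x.neutralSet G) ∩ pullback.snd f f ⁻¹' (U.ι ⁻¹' SGA3x.neutralSet G),
    hsV, hV, inferInstance, SchBasic.locallyOfFinitePresentation_of_comp D G.hom,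
    ((pullback.fst f f).isConstructible_preimage hcons).inter ((pullback.snd f f).isConstructible_preimage hcons), ?_, hrD⟩
  refine Set.Subset.antisymm ?_ fun x hx => ?_
  · rintro _ ⟨z, ⟨h1, h2⟩, rfl⟩
    refine ⟨?_, hrD ⟨z, rfl⟩⟩
    simp only [D, Scheme.Hom.comp_apply, Over.comp_left]
    refine mul_mem G _ ?_ ?_
    · rw [← hap, tensorHom_fst, Category.comp_id, hj1]
      exact h1
    · rw [← hap, tensorHom_snd, hap, hj2]
      exact inv_mem G h2
  · obtain ⟨z, h1, h2, h3, h4⟩ := exists_div G (lft_fibres G) hx.1 U (hηU _ hx.2)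
    have h5 : (fst G G).left z ∈ SGA3x.neutralSet G := by
      have hD' : (𝟙 G ⊗ₘ ι[G]) ≫ μ[G] = fst G G * (snd G G)⁻¹ := by
        rw [Hom.inv_def, Hom.mul_def]
        congr 1
      have h := mul_mem G ((lift ((𝟙 G ⊗ₘ ι[G]) ≫ μ[G]) (snd G G)).left z)
        (by rw [← hap, lift_fst, h3]; exact hx.1) (by rw [← hap, lift_snd]; exact h4)
      rwa [← hap, ← Hom.mul_def, hD', inv_mul_cancel_right] at h
    obtain ⟨w, rfl⟩ := hj.ge ⟨h1, h2⟩
    exact ⟨w, ⟨by simp only [Set.mem_preimage]; rw [← hj1]; exact h5, by simp only [Set.mem_preimage]; rw [← hj2]; exact h4⟩, h3⟩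

theorem isIndConstructible : ProCons.IsIndConstructible (SGA3x.neutralSet G) := by
  intro x
  obtain ⟨V, Z, D, M, hxV, hV, hZ, hD, hM, hDM, hrD⟩ := exists_chart G (G.hom x)
  obtain ⟨W, hW, hxW, hWV⟩ := exists_isAffineOpen_mem_and_subset (X := G.left) (x := x) (U := G.hom ⁻¹ᵁ V) hxV
  refine ⟨W, W.2, hxW, {T | IsLocallyConstructible T ∧ T ⊆ Subtype.val ⁻¹' SGA3x.neutralSet G}, fun T hT => hT.1, ?_⟩
  refine subset_antisymm (fun y hy => ?_) (Set.sUnion_subset fun T hT => hT.2)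
  obtain ⟨z, hz, hzy⟩ := hDM.ge ⟨hy, hWV y.2⟩
  obtain ⟨O, hO, hzO, hOW⟩ := exists_isAffineOpen_mem_and_subset (X := Z) (x := z) (U := D ⁻¹ᵁ W)
    (show D z ∈ W from hzy.symm ▸ y.2)
  haveI : IsAffine O.toScheme := hO
  haveI : IsAffine W.toScheme := hW
  let DO := D.resLE W O hOW
  have e : ∀ w, W.ι (DO w) = D (O.ι w) := fun w => by
    rw [← Scheme.Hom.comp_apply, ← Scheme.Hom.comp_apply, Scheme.Hom.resLE_comp_ι]
  refine Set.mem_sUnion.2 ⟨DO '' (O.ι ⁻¹' M),
    ⟨DO.isLocallyConstructible_image (hM.preimage_of_isOpenEmbedding O.ι.isOpenEmbedding).isLocallyConstructible, ?_⟩,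
    ⟨⟨z, hzO⟩, hz, Subtype.ext ((e _).trans hzy)⟩⟩
  rintro _ ⟨w, hw, rfl⟩
  exact (hDM.le ⟨O.ι w, hw, (e w).symm⟩).1

theorem isLocallyConstructible [QuasiSeparated G.hom] : IsLocallyConstructible (SGA3x.neutralSet G) := by
  choose V Z D M hsV hV hZ hD hM hDM hrD using exists_chart G
  refine IsLocallyConstructible.of_isOpenCover (U := fun s => G.hom ⁻¹ᵁ V s)
    (TopologicalSpace.IsOpenCover.mk (top_le_iff.1 fun x _ => TopologicalSpace.Opens.mem_iSup.2 ⟨G.hom x, hsV _⟩))
    fun s => ?_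
  haveI := hD s
  haveI := hZ s
  haveI : IsAffine (V s).toScheme := hV s
  haveI : QuasiSeparatedSpace (G.hom ⁻¹ᵁ V s).toScheme :=
    quasiSeparatedSpace_of_quasiSeparated (G.hom ∣_ V s)
  let D' : Z s ⟶ (G.hom ⁻¹ᵁ V s).toScheme := IsOpenImmersion.lift (G.hom ⁻¹ᵁ V s).ι (D s) (by
    rw [Scheme.Opens.range_ι]; exact hrD s)
  have hD' : D' ≫ (G.hom ⁻¹ᵁ V s).ι = D s := IsOpenImmersion.lift_fac _ _ _
  haveI : QuasiCompact D' := quasiCompact_of_compactSpace D'
  haveI : LocallyOfFinitePresentation (D' ≫ (G.hom ⁻¹ᵁ V s).ι) := by rw [hD']; exact hD s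
  haveI : LocallyOfFinitePresentation D' := SchBasic.locallyOfFinitePresentation_of_comp D' (G.hom ⁻¹ᵁ V s).ι
  have e : D' '' M s = (G.hom ⁻¹ᵁ V s).ι ⁻¹' SGA3x.neutralSet G := by
    apply (G.hom ⁻¹ᵁ V s).ι.isOpenEmbedding.injective.image_injective
    rw [← Set.image_comp, show (G.hom ⁻¹ᵁ V s).ι ∘ D' = D s from funext fun z => by
      rw [Function.comp_apply, ← Scheme.Hom.comp_apply, hD'], hDM, Set.image_preimage_eq_inter_range,
      Scheme.Opens.range_ι]
    rfl
  have h := D'.isLocallyConstructible_image (hM s).isLocallyConstructible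
  rw [e] at h
  exact h

theorem isConstructible [QuasiSeparated G.hom] [CompactSpace S] [QuasiSeparatedSpace S] :
    IsConstructible (SGA3x.neutralSet G) := by
  haveI : QuasiSeparatedSpace G.left := quasiSeparatedSpace_of_quasiSeparated G.hom
  obtain ⟨U, hU, hsub⟩ := exists_isCompact_open G (lft_fibres G)
  exact (isLocallyConstructible G).isConstructible_of_subset_of_isCompact hsub hU

end Groth.Agent.GrpNeutral20
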