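import Groth.Agent.Lib.GrpNeutral20.Orbit
import Groth.Agent.Lib.GrpField.Irreducible
import Groth.Agent.Lib.AbRigid.Shear
import Groth.Agent.Lib.H12.Specialization

/-!
# Maximal points of homogeneous spaces
-/

universe u

open CategoryTheory Limits MonoidalCategory CartesianMonoidalCategory AlgebraicGeometry Topology
open scoped MonObj GrpObj

set_option linter.style.haveILetI false
set_option backward.isDefEq.respectTransparency false

namespace Groth.Agent.GrpNeutral20

variable {S : Scheme.{u}} {G X : Over S} [GrpObj G] [LocallyOfFinitePresentation G.hom]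

/-- The orbit map of a point with values in `T`. -/
noncomputable abbrev orb (a : AlgGrp.Action G X) {T : Over S} (p : T ⟶ X) : T ⊗ G ⟶ T ⊗ X :=
  lift (fst T G) (lift (snd T G) (fst T G ≫ p) ≫ a.act)

omit [LocallyOfFinitePresentation G.hom] in
/-- The orbit map of a point over a field is surjective. -/
theorem exists_orbit_pt (a : AlgGrp.Action G X) (hΦ : Surjective (lift a.act (snd G X)).left)
    {T : Over S} (p : T ⟶ X) (P : (T ⊗ X).left) : ∃ h, (orb a p).left h = P := by
  let T₁ : Over S := Over.mk ((T ⊗ X).left.fromSpecResidueField P ≫ (T ⊗ X).hom)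
  let ρ : T₁ ⟶ T ⊗ X := Over.homMk ((T ⊗ X).left.fromSpecResidueField P) rfl
  let j : T₁ ⟶ X ⊗ X := ρ ≫ lift (snd T X) (fst T X ≫ p)
  let q : T₁.left := (IsLocalRing.closedPoint ((T ⊗ X).left.residueField P) : Spec ((T ⊗ X).left.residueField P))
  obtain ⟨z, hz⟩ := hΦ.surj (j.left q)
  obtain ⟨w₀, hw₁, -⟩ := Scheme.Pullback.exists_preimage_pullback (f := j.left) (g := (lift a.act (snd G X)).left) q z hz.symm
  let T₂ : Over S := Over.mk (pullback.fst j.left (lift a.act (snd G X)).left ≫ T₁.hom)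
  let k₁ : T₂ ⟶ T₁ := Over.homMk (pullback.fst j.left (lift a.act (snd G X)).left) rfl
  let k₂ : T₂ ⟶ G ⊗ X := Over.homMk (pullback.snd j.left (lift a.act (snd G X)).left) (by
    show _ = pullback.fst j.left (lift a.act (snd G X)).left ≫ T₁.hom
    rw [← Over.w j, ← Over.w (lift a.act (snd G X)), ← Category.assoc, ← pullback.condition, Category.assoc])
  have hk : k₁ ≫ j = k₂ ≫ lift a.act (snd G X) := by
    apply Over.OverMorphism.ext
    exact pullback.condition (f := j.left) (g := (lift a.act (snd G X)).left)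
  refine ⟨(lift (k₁ ≫ ρ ≫ fst T X) (k₂ ≫ fst G X)).left w₀, ?_⟩
  rw [← hap, show lift (k₁ ≫ ρ ≫ fst T X) (k₂ ≫ fst G X) ≫ orb a p = k₁ ≫ ρ from ?_, hap]
  · exact Scheme.fromSpecResidueField_apply P _
  · have e1 : k₂ ≫ a.act = k₁ ≫ ρ ≫ snd T X := by
      simpa [j] using congrArg (fun φ => φ ≫ fst X X) hk.symm
    have e2 : k₂ ≫ snd G X = k₁ ≫ ρ ≫ fst T X ≫ p := by
      simpa [j] using congrArg (fun φ => φ ≫ snd X X) hk.symm
    apply CartesianMonoidalCategory.hom_ext
    · simp
    · simp only [orb, Category.assoc, lift_snd, comp_lift_assoc, lift_fst_assoc]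
      rw [← e2, ← e1, ← comp_lift_assoc, lift_fst_snd, Category.id_comp]

/-- The maximal generalization of a rational point of a homogeneous space is unique. -/
theorem eq_of_isMaxPt_rational (a : AlgGrp.Action G X) (hΦ : Surjective (lift a.act (snd G X)).left)
    {K : Type u} [Field K] [IsAlgClosed K] (y : Spec (CommRingCat.of K) ⟶ S) (p : Over.mk y ⟶ X)
    {Q Q' : (Over.mk y ⊗ X).left} (hQ : FlatH4.IsMaxPt Q) (hQ' : FlatH4.IsMaxPt Q')
    (h : Q ⤳ (lift (𝟙 (Over.mk y)) p).left (IsLocalRing.closedPoint K : Spec (CommRingCat.of K)))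
    (h' : Q' ⤳ (lift (𝟙 (Over.mk y)) p).left (IsLocalRing.closedPoint K : Spec (CommRingCat.of K))) : Q = Q' := by
  let T : Over S := Over.mk y
  obtain ⟨P₀, hP₀, -⟩ := FlatH4.exists_isMaxPt_specializes ((lift (𝟙 T) p).left (IsLocalRing.closedPoint K : Spec (CommRingCat.of K)))
  -- a geometric point over a maximal point
  let κ : Type u := (T ⊗ X).left.residueField P₀
  let L : Type u := AlgebraicClosure κ
  let φ : κ →+* L := algebraMap κ L
  let i : Spec (CommRingCat.of L) ⟶ (T ⊗ X).left :=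
    Spec.map (CommRingCat.ofHom φ) ≫ (T ⊗ X).left.fromSpecResidueField P₀
  let T' : Over S := Over.mk (i ≫ (T ⊗ X).hom)
  let P' : T' ⟶ T ⊗ X := Over.homMk i rfl
  let j : T' ⟶ T := P' ≫ fst T X
  let r : T' ⊗ X ⟶ T ⊗ X := j ▷ X
  let c : T' ⟶ T' ⊗ X := lift (𝟙 T') (P' ≫ snd T X)
  let a' : T' ⟶ T' ⊗ X := lift (𝟙 T') (j ≫ p)
  have hcr : c ≫ r = P' := by
    apply CartesianMonoidalCategory.hom_ext <;> simp [c, r, j]
  have har : a' ≫ r = j ≫ lift (𝟙 T) p := by
    apply CartesianMonoidalCategory.hom_ext <;> simp [a', r]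
  let pt : T'.left := (IsLocalRing.closedPoint L : Spec (CommRingCat.of L))
  haveI : Subsingleton T'.left := inferInstanceAs (Subsingleton (PrimeSpectrum L))
  haveI : Subsingleton T.left := inferInstanceAs (Subsingleton (PrimeSpectrum K))
  have sqr : IsPullback (fst T' X).left r.left j.left (fst T X).left :=
    (AbRigid.isPullback_whiskerRight j X).map (Over.forget S)
  obtain ⟨ψ, hψ⟩ : ∃ ψ : CommRingCat.of K ⟶ CommRingCat.of L, Spec.map ψ = j.left :=
    ⟨Spec.preimage (S := CommRingCat.of L) (R := CommRingCat.of K) j.left, Spec.map_preimage _⟩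
  haveI : Flat j.left := hψ ▸ (inferInstance : Flat (Spec.map ψ))
  haveI : Flat r.left := MorphismProperty.of_isPullback (P := @Flat) sqr ‹Flat j.left›
  -- the fibre over `P₀` is irreducible
  have huniq : ∀ R R' : (T' ⊗ X).left, FlatH4.IsMaxPt R → FlatH4.IsMaxPt R' → R ⤳ c.left pt → R' ⤳ c.left pt → R = R' := by
    have hcP : r.left (c.left pt) = P₀ := by
      rw [← hap, hcr]
      show (Spec.map (CommRingCat.ofHom φ) ≫ (T ⊗ X).left.fromSpecResidueField P₀) pt = P₀
      rw [Scheme.Hom.comp_apply]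
      exact Scheme.fromSpecResidueField_apply P₀ _
    let Qp := (T ⊗ X).left.fromSpecResidueField P₀
    have big : IsPullback (pullback.fst Qp r.left) (pullback.snd Qp r.left ≫ (fst T' X).left)
        (Qp ≫ (fst T X).left) (Spec.map ψ) := by
      rw [hψ]
      exact (IsPullback.of_hasPullback Qp r.left).paste_vert sqr.flip
    haveI : IrreducibleSpace ↥(Spec ((T ⊗ X).left.residueField P₀)) :=
      inferInstanceAs (IrreducibleSpace (PrimeSpectrum _))
    haveI := GrpField.geometricallyIrreducible_of_isAlgClosed (K := K) (X := Spec ((T ⊗ X).left.residueField P₀))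
      (Qp ≫ (fst T X).left)
    haveI : IrreducibleSpace ↥(pullback Qp r.left) :=
      GeometricallyIrreducible.geometrically_irreducibleSpace (f := Qp ≫ (fst T X).left) _ _ _ big
    have hrange : Set.range (pullback.snd Qp r.left) = r.left ⁻¹' {P₀} := by
      rw [Scheme.Pullback.range_snd, Scheme.range_fromSpecResidueField]
    intro R R' hR hR' hRc hR'c
    obtain ⟨ξ, hξ⟩ := QuasiSober.sober (IrreducibleSpace.isIrreducible_univ ↥(pullback Qp r.left)) isClosed_univ
    have key : ∀ R : (T' ⊗ X).left, FlatH4.IsMaxPt R → R ⤳ c.left pt → R = pullback.snd Qp r.left ξ := by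
      intro R hR hRc
      have hrR : r.left R = P₀ := hP₀ _ (hcP ▸ hRc.map r.left.continuous)
      obtain ⟨R₀, rfl⟩ : R ∈ Set.range (pullback.snd Qp r.left) := hrange.ge hrR
      exact (hR _ ((hξ.specializes (Set.mem_univ R₀)).map (pullback.snd Qp r.left).continuous)).symm
    rw [key R hR hRc, key R' hR' hR'c]
  -- transport along a rational point of the group
  haveI : IsClosedImmersion a'.left :=
    isClosedImmersion_of_comp_eq_id (fst T' X).left a'.left (by
      rw [← Over.comp_left, lift_fst]; rfl)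
  have hclosed : IsClosed ((orb a (P' ≫ snd T X)).left ⁻¹' Set.range a'.left) :=
    a'.left.isClosedEmbedding.isClosed_range.preimage (orb a (P' ≫ snd T X)).left.continuous
  obtain ⟨h₀, hh₀⟩ := exists_orbit_pt a hΦ (P' ≫ snd T X) (a'.left pt)
  haveI : LocallyOfFiniteType (fst T' G).left :=
    inferInstanceAs (LocallyOfFiniteType (pullback.fst T'.hom G.hom))
  haveI : JacobsonSpace T'.left := inferInstanceAs (JacobsonSpace (PrimeSpectrum L))
  haveI : JacobsonSpace (T' ⊗ G).left := LocallyOfFiniteType.jacobsonSpace (fst T' G).left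
  obtain ⟨h₁, hh₁, hc₁⟩ := nonempty_inter_closedPoints (Z := (orb a (P' ≫ snd T X)).left ⁻¹' Set.range a'.left)
    ⟨h₀, pt, hh₀.symm⟩ hclosed.isLocallyClosed
  obtain ⟨pt', hpt'⟩ := hh₁
  rw [Subsingleton.elim pt' pt] at hpt'
  let σ : T' ⟶ T' ⊗ G := Over.homMk (pointOfClosedPoint (K := L) (fst T' G).left h₁ hc₁) (by
    rw [← Over.w (fst T' G), ← Category.assoc, pointOfClosedPoint_comp]
    exact Category.id_comp _)
  have hσ : σ ≫ fst T' G = 𝟙 T' := by
    apply Over.OverMorphism.ext; exact pointOfClosedPoint_comp _ _ _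
  let g : T' ⟶ G := σ ≫ snd T' G
  let τ : (T' ⟶ G) → (T' ⊗ X ⟶ T' ⊗ X) := fun g => lift (fst T' X) (lift (fst T' X ≫ g) (snd T' X) ≫ a.act)
  have hττ : ∀ g, τ g ≫ τ g⁻¹ = 𝟙 _ := fun g => by
    apply CartesianMonoidalCategory.hom_ext
    · simp [τ]
    · simp only [τ, Category.assoc, lift_snd, comp_lift_assoc, lift_fst_assoc, Category.id_comp]
      rw [← AlgGrpBasic19.act_mul, GrpObj.comp_inv, inv_mul_cancel, AlgGrpBasic19.act_one]
  have hτc : (τ g).left (c.left pt) = a'.left pt := by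
    rw [hpt', ← show σ.left pt = h₁ from pointOfClosedPoint_apply _ _ _ _, ← hap, ← hap]
    suffices e : c ≫ τ g = σ ≫ orb a (P' ≫ snd T X) by rw [e]
    apply CartesianMonoidalCategory.hom_ext
    · simp [τ, c, hσ]
    · simp only [orb, τ, c, g, Category.assoc, lift_snd]
      rw [comp_lift_assoc, comp_lift_assoc, lift_fst_assoc, lift_snd, Category.id_comp, reassoc_of% hσ]
  have hback : ∀ R : (T' ⊗ X).left, FlatH4.IsMaxPt R → R ⤳ a'.left pt →
      FlatH4.IsMaxPt ((τ g⁻¹).left R) ∧ (τ g⁻¹).left R ⤳ c.left pt := by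
    intro R hR hRa
    refine ⟨isMaxPt_of_map (τ g).left (Function.LeftInverse.injective (g := (τ g⁻¹).left) fun w => ?_) ?_, ?_⟩
    · rw [← hap, hττ]; rfl
    · rw [← hap, show τ g⁻¹ ≫ τ g = 𝟙 _ by simpa using hττ g⁻¹]; exact hR
    · have := hRa.map (τ g⁻¹).left.continuous
      rwa [← hτc, ← hap (τ g), hττ] at this
  -- descend
  have hlift : ∀ Q : (T ⊗ X).left, FlatH4.IsMaxPt Q → Q ⤳ (lift (𝟙 T) p).left (IsLocalRing.closedPoint K : Spec (CommRingCat.of K)) →
      ∃ R, FlatH4.IsMaxPt R ∧ R ⤳ a'.left pt ∧ r.left R = Q := by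
    intro Q hQ hQa
    have e : r.left (a'.left pt) = (lift (𝟙 T) p).left (IsLocalRing.closedPoint K : Spec (CommRingCat.of K)) := by
      rw [← hap, har, hap]
      congr 1
      exact Subsingleton.elim (α := T.left) _ _
    obtain ⟨R, hRa, hRQ⟩ := Flat.generalizingMap r.left (e.symm ▸ hQa)
    obtain ⟨R', hR', hR'R⟩ := FlatH4.exists_isMaxPt_specializes R
    exact ⟨R', hR', hR'R.trans hRa, hQ _ (hRQ ▸ hR'R.map r.left.continuous)⟩
  obtain ⟨R, hR, hRa, rfl⟩ := hlift Q hQ h
  obtain ⟨R', hR', hR'a, rfl⟩ := hlift Q' hQ' h'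
  have := huniq _ _ (hback R hR hRa).1 (hback R' hR' hR'a).1 (hback R hR hRa).2 (hback R' hR' hR'a).2
  have h2 := congrArg (τ g).left this
  rw [← hap, ← hap, show τ g⁻¹ ≫ τ g = 𝟙 _ by simpa using hττ g⁻¹] at h2
  exact congrArg r.left h2

/-- A geometric point, the fibre over its image and the flat comparison map. -/
theorem exists_geom (a : AlgGrp.Action G X) (hΦ : Surjective (lift a.act (snd G X)).left) (x : X.left)
    {s : S} (hs : X.hom x = s) :
    ∃ (K : Type u) (_ : Field K) (_ : IsAlgClosed K) (y : Spec (CommRingCat.of K) ⟶ S) (p : Over.mk y ⟶ X)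
      (r : (Over.mk y ⊗ X).left ⟶ X.hom.fiber s) (η₀ : (Over.mk y ⊗ G).left),
      Flat r ∧ r ≫ X.hom.fiberι s = (snd (Over.mk y) X).left ∧
      p.left (IsLocalRing.closedPoint K : Spec (CommRingCat.of K)) = x ∧
      (snd (Over.mk y) G).left η₀ ∈ SGA3x.neutralSet G ∧
      (∀ h, (snd (Over.mk y) G).left h ∈ SGA3x.neutralSet G → η₀ ⤳ h) ∧
      FlatH4.IsMaxPt ((orb a p).left η₀) := by
  subst hs
  let s := X.hom x
  let K := AlgebraicClosure (X.left.residueField x)
  let xb : Spec (CommRingCat.of K) ⟶ X.left :=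
    Spec.map (CommRingCat.ofHom (algebraMap (X.left.residueField x) K)) ≫ X.left.fromSpecResidueField x
  let y := xb ≫ X.hom
  let p : Over.mk y ⟶ X := Over.homMk xb rfl
  obtain ⟨η₀, hη₀, hgen, hmax⟩ := isMaxPt_orbit a hΦ y p
  let T : Over S := Over.mk y
  let φ : S.residueField s ⟶ CommRingCat.of K :=
    X.hom.residueFieldMap x ≫ CommRingCat.ofHom (algebraMap (X.left.residueField x) K)
  have hy : Spec.map φ ≫ S.fromSpecResidueField s = y := by
    simp only [φ, y, xb, s, Spec.map_comp, Category.assoc, Scheme.Hom.SpecMap_residueFieldMap_fromSpecResidueField]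
  have sqX : IsPullback (snd T X).left (fst T X).left X.hom y := (IsPullback.of_hasPullback T.hom X.hom).flip
  let r : (T ⊗ X).left ⟶ X.hom.fiber s := pullback.lift (snd T X).left ((fst T X).left ≫ Spec.map φ) (by
    rw [sqX.w, Category.assoc, hy])
  have sqr : IsPullback r (fst T X).left (X.hom.fiberToSpecResidueField s) (Spec.map φ) :=
    IsPullback.of_right (h₁₂ := pullback.fst X.hom (S.fromSpecResidueField s))
      (by rw [pullback.lift_fst, hy]; exact sqX) (pullback.lift_snd _ _ _) (IsPullback.of_hasPullback _ _)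
  haveI : Subsingleton ↥(Spec (S.residueField s)) := inferInstanceAs (Subsingleton (PrimeSpectrum _))
  refine ⟨K, inferInstance, inferInstance, y, p, r, η₀, ?_, pullback.lift_fst _ _ _, ?_, hη₀, hgen, hmax⟩
  · exact MorphismProperty.of_isPullback sqr.flip (inferInstance : Flat (Spec.map φ))
  · show (Spec.map (CommRingCat.ofHom (algebraMap (X.left.residueField x) K)) ≫ X.left.fromSpecResidueField x) _ = x
    rw [Scheme.Hom.comp_apply]
    exact Scheme.fromSpecResidueField_apply x _

/-- The maximal generalization in a fibre of a homogeneous space is unique. -/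
theorem eq_of_isMaxPt_fibre (a : AlgGrp.Action G X) (hΦ : Surjective (lift a.act (snd G X)).left) (s : S)
    {M M' w : ↥(X.hom.fiber s)} (hM : FlatH4.IsMaxPt M) (hM' : FlatH4.IsMaxPt M') (h : M ⤳ w) (h' : M' ⤳ w) : M = M' := by
  have hws : X.hom (X.hom.fiberι s w) = s := (Scheme.Hom.range_fiberι X.hom s).le ⟨w, rfl⟩
  obtain ⟨K, _, _, y, p, r, η₀, hr, hrι, hp, -, -, -⟩ := exists_geom a hΦ (X.hom.fiberι s w) hws
  haveI := hr
  let a₀ := (lift (𝟙 (Over.mk y)) p).left (IsLocalRing.closedPoint K : Spec (CommRingCat.of K))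
  have hra : r a₀ = w := by
    refine (X.hom.fiberι _).isEmbedding.injective ?_
    rw [← Scheme.Hom.comp_apply, hrι, ← hap, lift_snd]
    exact hp
  have hlift : ∀ N, FlatH4.IsMaxPt N → N ⤳ w → ∃ R, FlatH4.IsMaxPt R ∧ R ⤳ a₀ ∧ r R = N := by
    intro N hN hNw
    obtain ⟨R, hRa, hRN⟩ := Flat.generalizingMap r (hra.symm ▸ hNw)
    obtain ⟨R', hR', hR'R⟩ := FlatH4.exists_isMaxPt_specializes R
    exact ⟨R', hR', hR'R.trans hRa, hN _ (hRN ▸ hR'R.map r.continuous)⟩
  obtain ⟨R, hR, hRa, rfl⟩ := hlift M hM h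
  obtain ⟨R', hR', hR'a, rfl⟩ := hlift M' hM' h'
  rw [eq_of_isMaxPt_rational a hΦ y p hR hR' hRa hR'a]

/-- The translates of an open by the neutral components are the points whose maximal generalization in
their fibre lies in it. -/
theorem mem_actSet_iff_isMaxPt (a : AlgGrp.Action G X) (hΦ : Surjective (lift a.act (snd G X)).left)
    (U : X.left.Opens) (s : S) {M w : ↥(X.hom.fiber s)} (hM : FlatH4.IsMaxPt M) (h : M ⤳ w) :
    X.hom.fiberι s w ∈ actSet a U ↔ X.hom.fiberι s M ∈ U := by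
  have hws : X.hom (X.hom.fiberι s w) = s := (Scheme.Hom.range_fiberι X.hom s).le ⟨w, rfl⟩
  obtain ⟨K, _, _, y, p, r, η₀, hr, hrι, hp, hη₀, hgen, hmax⟩ := exists_geom a hΦ (X.hom.fiberι s w) hws
  haveI := hr
  let T : Over S := Over.mk y
  let pt : T.left := (IsLocalRing.closedPoint K : Spec (CommRingCat.of K))
  haveI : Subsingleton T.left := inferInstanceAs (Subsingleton (PrimeSpectrum K))
  have hne : (orb a p).left η₀ ⤳ (lift (𝟙 T) p).left pt := by
    have h1 := hgen ((lift (𝟙 T) 1 : T ⟶ T ⊗ G).left pt) (by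
      rw [← hap, lift_snd, Hom.one_def, hap]
      exact unit_mem G _)
    have h2 := h1.map (orb a p).left.continuous
    rwa [← hap, show (lift (𝟙 T) 1 : T ⟶ T ⊗ G) ≫ orb a p = lift (𝟙 T) p by
      apply CartesianMonoidalCategory.hom_ext
      · simp
      · simp only [orb, Category.assoc, lift_snd]
        rw [comp_lift_assoc, lift_snd, lift_fst_assoc, Category.id_comp]
        exact AlgGrpBasic19.act_one a p] at h2
  have hMo : r ((orb a p).left η₀) = M := by
    refine eq_of_isMaxPt_fibre a hΦ _ (hmax.map_of_flat r) hM ?_ h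
    have h2 := hne.map r.continuous
    have e : r ((lift (𝟙 T) p).left pt) = w := by
      refine (X.hom.fiberι _).isEmbedding.injective ?_
      rw [← Scheme.Hom.comp_apply, hrι, ← hap, lift_snd]
      exact hp
    rwa [e] at h2
  have hMi : X.hom.fiberι _ M = (snd T X).left ((orb a p).left η₀) := by
    rw [← hMo, ← Scheme.Hom.comp_apply, hrι]
  rw [hMi, ← hap, lift_snd]
  let f : T ⊗ G ⟶ G ⊗ X := lift (snd T G) (fst T G ≫ p)
  have hfs : ∀ h, (snd G X).left (f.left h) = X.hom.fiberι _ w := fun h => by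
    rw [← hap, lift_snd, hap, Subsingleton.elim ((fst T G).left h) pt]
    exact hp
  constructor
  · intro hw
    obtain ⟨v, hv1, hv2, hv3⟩ := exists_moving a hw
    have sq : IsPullback f.left (fst T G).left (snd G X).left p.left := by
      have h0 : IsPullback (fst T G ≫ 𝟙 _) (lift (snd T G) (fst T G ≫ p)) p (snd G X) := by
        refine ⟨⟨by simp⟩, ⟨PullbackCone.IsLimit.mk _ (fun c => lift c.fst (c.snd ≫ fst G X)) (fun c => by simp)
          (fun c => ?_) (fun c m h1 h2 => ?_)⟩⟩
        · apply CartesianMonoidalCategory.hom_ext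
          · simp
          · simp [c.condition]
        · apply CartesianMonoidalCategory.hom_ext
          · simpa using h1
          · simp [← h2]
      rw [Category.comp_id] at h0
      exact (h0.map (Over.forget S)).flip
    obtain ⟨h₁, hh₁, -⟩ := Scheme.exists_preimage_of_isPullback sq v pt (by rw [hv2]; exact hp.symm)
    have hN : (snd T G).left h₁ ∈ SGA3x.neutralSet G := by
      rw [show snd T G = f ≫ fst G X from (lift_fst _ _).symm, hap, hh₁]
      exact hv1
    have h3 := (hgen h₁ hN).map (f ≫ a.act).left.continuous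
    rw [hap f a.act h₁, hh₁] at h3
    exact h3.mem_open U.2 hv3
  · intro hU
    rw [← hfs η₀]
    exact mem_actSet a (by rw [← hap, lift_fst]; exact hη₀) (by rw [← hap]; exact hU)

/-- In a transitive action with connected quasi-separated fibres, every open meeting a fibre
translates to the whole fibre. -/
theorem fibre_subset_actSet (a : AlgGrp.Action G X) (hΦ : Surjective (lift a.act (snd G X)).left) (s : S)
    (hqs : QuasiSeparatedSpace ↥(X.hom ⁻¹' {s})) (hconn : _root_.IsPreconnected (X.hom ⁻¹' {s}))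
    (hd : ConstDimGen G) (U₁ : X.left.Opens) {x₁ : X.left} (hx₁ : x₁ ∈ U₁) (hx₁s : X.hom x₁ = s) :
    X.hom ⁻¹' {s} ⊆ actSet a U₁ := by
  let ι₀ := X.hom.fiberι s
  haveI hqsF : QuasiSeparatedSpace ↥(X.hom.fiber s) :=
    (QuasiSeparatedSpace.of_isOpenEmbedding (X.hom.fiberHomeo s).isOpenEmbedding :)
  haveI : PreconnectedSpace ↥(X.hom.fiber s) := by
    haveI : PreconnectedSpace ↥(X.hom ⁻¹' {s}) := Subtype.preconnectedSpace hconn
    exact (X.hom.fiberHomeo s).symm.surjective.denseRange.preconnectedSpace (X.hom.fiberHomeo s).symm.continuous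
  obtain ⟨w₁, hw₁⟩ := (Scheme.Hom.range_fiberι X.hom s).ge hx₁s
  obtain ⟨U', hU', hwU', hU'le⟩ := exists_isAffineOpen_mem_and_subset (X := X.hom.fiber s) (x := w₁)
    (U := ι₀ ⁻¹ᵁ U₁) (by show ι₀ w₁ ∈ U₁; exact hw₁ ▸ hx₁)
  obtain ⟨O, hO, hOU'⟩ := ι₀.isEmbedding.isInducing.isOpen_iff.1 U'.2
  let O' : X.left.Opens := ⟨O, hO⟩
  let A : Set ↥(X.hom.fiber s) := ι₀ ⁻¹' actSet a O'
  have hiff : ∀ {M w}, FlatH4.IsMaxPt M → M ⤳ w → (w ∈ A ↔ M ∈ U') := fun hM h => by
    refine (mem_actSet_iff_isMaxPt a hΦ O' s hM h).trans ?_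
    exact Set.ext_iff.1 hOU' _
  have hA : IsOpen A := (isOpen_actSet a hd O').preimage ι₀.continuous
  have hA' : A = closure (U' : Set ↥(X.hom.fiber s)) := by
    ext w
    obtain ⟨M, hM, hMw⟩ := FlatH4.exists_isMaxPt_specializes w
    rw [hiff hM hMw]
    refine ⟨fun h => hMw.mem_closed isClosed_closure (subset_closure h), fun h => ?_⟩
    haveI : CompactSpace U'.toScheme := isCompact_iff_compactSpace.1 hU'.isCompact
    haveI : QuasiCompact U'.ι := quasiCompact_of_compactSpace _
    obtain ⟨t, ht⟩ := H12.exists_specializes_of_mem_closure_range U'.ι w (by rwa [Scheme.Opens.range_ι])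
    obtain ⟨M', hM', hM't⟩ := FlatH4.exists_isMaxPt_specializes (U'.ι t)
    rw [eq_of_isMaxPt_fibre a hΦ s hM hM' hMw (hM't.trans ht)]
    exact hM't.mem_open U'.2 t.2
  have hAu : A = Set.univ := (IsClopen.eq_univ ⟨hA' ▸ isClosed_closure, hA⟩ ⟨w₁, hA' ▸ subset_closure hwU'⟩)
  intro x hx
  obtain ⟨w, rfl⟩ := (Scheme.Hom.range_fiberι X.hom s).ge hx
  obtain ⟨M, hM, hMw⟩ := FlatH4.exists_isMaxPt_specializes w
  exact (mem_actSet_iff_isMaxPt a hΦ U₁ s hM hMw).2 (hU'le ((hiff hM hMw).1 (hAu.ge trivial)))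

end Groth.Agent.GrpNeutral20
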