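import Groth.Agent.Lib.GrpNeutral20.Cons
import Groth.Agent.Lib.ConsTop3.Basic
import Groth.Agent.Lib.SubGrp13.Basic
import Groth.Agent.S3403

/-!
# The neutral components are open over a nonempty open of the base
-/

set_option autoImplicit false
set_option linter.style.haveILetI false
set_option backward.isDefEq.respectTransparency false

universe u

open CategoryTheory Limits MonoidalCategory CartesianMonoidalCategory AlgebraicGeometry Topology
open scoped MonObj

namespace Groth.Agent.GrpNeutral20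

variable {S : Scheme.{u}} (G : Over S) [GrpObj G] [LocallyOfFiniteType G.hom]

/-- Every scheme has a maximal point, and a locally constructible set containing it is a neighbourhood of it. -/
theorem exists_maximal_point (S : Scheme.{u}) [Nonempty S] : ∃ s : S, ∀ s' : S, s' ⤳ s → s' = s := by
  obtain ⟨x₀⟩ := (inferInstance : Nonempty S)
  obtain ⟨s, hs⟩ := QuasiSober.sober (isIrreducible_irreducibleComponent (x := x₀)) isClosed_irreducibleComponent
  refine ⟨s, fun s' h => ?_⟩
  have h1 : irreducibleComponent x₀ ⊆ closure {s'} :=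
    hs.symm.le.trans (closure_minimal (Set.singleton_subset_iff.2 (specializes_iff_mem_closure.1 h)) isClosed_closure)
  exact (show IsGenericPoint s' (irreducibleComponent x₀) from
    eq_irreducibleComponent (isIrreducible_singleton.closure).2 h1).eq hs

/-- Over a nonempty open of a Noetherian base the neutral components are open. -/
theorem exists_open_isOpen_noetherian [IsNoetherian S] [Nonempty S] :
    ∃ V : S.Opens, (V : Set S).Nonempty ∧ IsOpen (SGA3x.neutralSet G ∩ G.hom ⁻¹' (V : Set S)) := by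
  haveI : IsLocallyNoetherian G.left := LocallyOfFiniteType.isLocallyNoetherian G.hom
  haveI : LocallyOfFinitePresentation G.hom := inferInstance
  haveI : QuasiSeparated G.hom := inferInstance
  obtain ⟨W, hW, hNW⟩ := exists_isCompact_open G (lft_fibres G)
  haveI : CompactSpace W.toScheme := isCompact_iff_compactSpace.1 hW
  haveI : IsLocallyNoetherian W.toScheme := LocallyOfFiniteType.isLocallyNoetherian W.ι
  haveI : IsNoetherian W.toScheme := {}
  let N := SGA3x.neutralSet G
  let f := W.ι ≫ G.hom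
  haveI : QuasiCompact f := quasiCompact_of_compactSpace f
  let D : Set W.toScheme := W.ι ⁻¹' (N \ interior N)
  have hD : IsConstructible D := by
    have h1 : IsConstructible (W.ι ⁻¹' N) := W.ι.isConstructible_preimage (isConstructible G)
    have h2 : IsConstructible (W.ι ⁻¹' interior N) :=
      (TopologicalSpace.NoetherianSpace.isCompact (W.ι ⁻¹' interior N)).isConstructible
        (isOpen_interior.preimage W.ι.continuous)
    exact h1.sdiff h2
  have hfD : IsConstructible (f '' D) := f.isConstructible_image hD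
  obtain ⟨s, hs⟩ := exists_maximal_point S
  have hsD : s ∉ f '' D := by
    rintro ⟨w, ⟨hwN, hwi⟩, rfl⟩
    refine hwi ((Groth.Agent.S3403.result G.left N (isIndConstructible G) (W.ι w)).2 fun c hc => ?_)
    have e : G.hom c = f w := hs _ (hc.map G.hom.continuous)
    have hN : W.ι w ∈ connectedComponentIn (G.hom ⁻¹' {G.hom (W.ι w)}) (η[G].left (G.hom (W.ι w))) :=
      (mem_iff G _).1 hwN
    rw [mem_iff, e]
    change c ∈ connectedComponentIn (G.hom ⁻¹' {G.hom (W.ι w)}) (η[G].left (G.hom (W.ι w)))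
    rw [connectedComponentIn_eq hN]
    have hpc : _root_.IsPreconnected ({W.ι w, c} : Set G.left) :=
      isPreconnected_singleton.subset_closure (Set.singleton_subset_iff.2 (Set.mem_insert_of_mem _ rfl))
        (Set.insert_subset (specializes_iff_mem_closure.1 hc) (Set.singleton_subset_iff.2 (subset_closure rfl)))
    exact hpc.subset_connectedComponentIn (Set.mem_insert _ _)
      (show ({W.ι w, c} : Set G.left) ⊆ G.hom ⁻¹' {G.hom (W.ι w)} from
        Set.insert_subset (show W.ι w ∈ G.hom ⁻¹' {G.hom (W.ι w)} from rfl) (Set.singleton_subset_iff.2 e)) (Set.mem_insert_of_mem _ rfl)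
  refine ⟨⟨interior (f '' D)ᶜ, isOpen_interior⟩, ⟨s, ?_⟩, ?_⟩
  · exact (Groth.Agent.S3403.result S _ (ConsTop3.isIndConstructible_of_isLocallyConstructible
      hfD.compl.isLocallyConstructible) s).2 fun s' h => by rw [hs s' h]; exact hsD
  · have e : N ∩ G.hom ⁻¹' interior (f '' D)ᶜ = interior N ∩ G.hom ⁻¹' interior (f '' D)ᶜ := by
      refine Set.Subset.antisymm (fun x hx => ⟨?_, hx.2⟩) (Set.inter_subset_inter_left _ interior_subset)
      by_contra hxi
      exact interior_subset (show G.hom x ∈ interior (f '' D)ᶜ from hx.2) ⟨⟨x, hNW hx.1⟩, ⟨hx.1, hxi⟩, rfl⟩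
    exact e ▸ isOpen_interior.inter (isOpen_interior.preimage G.hom.continuous)

/-- Over a nonempty open of a locally Noetherian base the neutral components are open. -/
theorem exists_open_isOpen [IsLocallyNoetherian S] [Nonempty S] :
    ∃ V : S.Opens, (V : Set S).Nonempty ∧ IsOpen (SGA3x.neutralSet G ∩ G.hom ⁻¹' (V : Set S)) := by
  obtain ⟨x₀⟩ := (inferInstance : Nonempty S)
  obtain ⟨U, hU, hxU, -⟩ := exists_isAffineOpen_mem_and_subset (X := S) (x := x₀) (U := ⊤) trivial
  haveI : IsAffine U.toScheme := hU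
  haveI : IsNoetherian U.toScheme := {}
  haveI : Nonempty U.toScheme := ⟨⟨x₀, hxU⟩⟩
  haveI : LocallyOfFiniteType (Red.bc U.ι G).hom := inferInstanceAs (LocallyOfFiniteType (pullback.snd G.hom U.ι))
  obtain ⟨V, hV, ho⟩ := exists_open_isOpen_noetherian (Red.bc U.ι G)
  let q : (Red.bc U.ι G).left ⟶ G.left := pullback.fst G.hom U.ι
  haveI : IsOpenImmersion q := inferInstanceAs (IsOpenImmersion (pullback.fst G.hom U.ι))
  refine ⟨U.ι ''ᵁ V, hV.image _, ?_⟩
  convert q.isOpenEmbedding.isOpenMap _ ho using 1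
  rw [neutralSet_bc]
  ext x
  constructor
  · rintro ⟨hx, v, hv, e⟩
    obtain ⟨z, hz, hz'⟩ := Scheme.Pullback.exists_preimage_pullback (f := G.hom) (g := U.ι) x v e.symm
    exact ⟨z, ⟨show q z ∈ SGA3x.neutralSet G from hz.symm ▸ hx, show (Red.bc U.ι G).hom z ∈ V from hz'.symm ▸ hv⟩, hz⟩
  · rintro ⟨z, ⟨hz, hz'⟩, rfl⟩
    refine ⟨hz, _, hz', ?_⟩
    show (pullback.snd G.hom U.ι ≫ U.ι) z = (pullback.fst G.hom U.ι ≫ G.hom) z
    rw [pullback.condition]

/-- An open union of neutral components underlies an open subgroup with connected fibres. -/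
theorem exists_subgroup_of_isOpen (hopen : IsOpen (SGA3x.neutralSet G)) :
    ∃ (G0 : Over S) (_ : GrpObj G0) (i : G0 ⟶ G), IsMonHom i ∧ IsOpenImmersion i.left ∧
      LocallyOfFiniteType G0.hom ∧ Set.range i.left = SGA3x.neutralSet G := by
  let N : G.left.Opens := ⟨_, hopen⟩
  let G0 : Over S := Over.mk (N.ι ≫ G.hom)
  let i : G0 ⟶ G := Over.homMk N.ι rfl
  haveI : Mono i := by
    haveI : Mono ((Over.forget S).map i) := inferInstanceAs (Mono N.ι)
    exact (Over.forget S).mono_of_mono_map ‹_›
  have hfac : ∀ {T : Over S} (g : T ⟶ G), (∀ t, g.left t ∈ SGA3x.neutralSet G) → ∃ g' : T ⟶ G0, g' ≫ i = g := fun {T} g hg => by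
    have hr : Set.range g.left ⊆ Set.range N.ι := by rintro _ ⟨t, rfl⟩; rw [Scheme.Opens.range_ι]; exact hg t
    refine ⟨Over.homMk (IsOpenImmersion.lift N.ι g.left hr) (by simp [G0]), ?_⟩
    ext
    exact IsOpenImmersion.lift_fac _ _ _
  have hiN : ∀ t, i.left t ∈ SGA3x.neutralSet G := fun t => t.2
  obtain ⟨m, hm⟩ := hfac ((fst G0 G0 ≫ i) * (snd G0 G0 ≫ i)) fun t => by
    rw [show (fst G0 G0 ≫ i) * (snd G0 G0 ≫ i) = (i ⊗ₘ i) ≫ μ[G] by simp [MonObj.mul_eq_mul, MonObj.comp_mul], hap]
    refine mul_mem G _ ?_ ?_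
    · rw [← hap, tensorHom_fst, hap]; exact hiN _
    · rw [← hap, tensorHom_snd, hap]; exact hiN _
  obtain ⟨e, he⟩ := hfac (1 : 𝟙_ (Over S) ⟶ G) fun t => by
    rw [Hom.one_def, hap]; exact unit_mem G _
  obtain ⟨n, hn⟩ := hfac i⁻¹ fun t => by
    rw [← Category.comp_id i, ← GrpObj.comp_inv, ← GrpObj.inv_eq_inv, hap]
    exact inv_mem G (hiN _)
  letI := SubGrp13.grpObjOfMono i hm he hn
  exact ⟨G0, inferInstance, i, SubGrp13.isMonHom_grpObjOfMono i hm he hn, inferInstanceAs (IsOpenImmersion N.ι),
    inferInstanceAs (LocallyOfFiniteType (N.ι ≫ G.hom)), Scheme.Opens.range_ι N⟩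

omit [LocallyOfFiniteType G.hom] in
/-- The fibres of the union of neutral components are connected. -/
theorem isConnected_inter_fibre (s : S) : IsConnected (SGA3x.neutralSet G ∩ G.hom ⁻¹' {s}) := by
  have e : SGA3x.neutralSet G ∩ G.hom ⁻¹' {s} = connectedComponentIn (G.hom ⁻¹' {s}) (η[G].left s) := by
    ext x
    constructor
    · rintro ⟨h1, h2⟩
      obtain rfl : G.hom x = s := h2
      exact (mem_iff G x).1 h1
    · intro h
      obtain rfl : G.hom x = s := connectedComponentIn_subset (G.hom ⁻¹' {s}) _ h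
      exact ⟨(mem_iff G x).2 h, rfl⟩
  rw [e]
  exact isConnected_connectedComponentIn_iff.2 (unit_over G s)

end Groth.Agent.GrpNeutral20
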