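import Groth.Agent.Lib.GrpNeutral20.ActOpen
import Groth.Agent.Lib.GrpNeutral20.Cons
import Groth.Agent.Lib.FlatH4.GenPt
import Groth.Agent.Lib.SectionCompOpen4
import Mathlib.AlgebraicGeometry.AlgClosed.Basic

/-!
# Orbits of the neutral components in transitive actions
-/

universe u

open CategoryTheory Limits MonoidalCategory CartesianMonoidalCategory AlgebraicGeometry Topology
open scoped MonObj GrpObj

set_option linter.style.haveILetI false
set_option backward.isDefEq.respectTransparency false

namespace Groth.Agent.GrpNeutral20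

variable {S : Scheme.{u}} {G X : Over S} [GrpObj G] [LocallyOfFinitePresentation G.hom]

theorem isMaxPt_of_map {A B : Scheme.{u}} (f : A ⟶ B) (hf : Function.Injective f) {x : A}
    (h : FlatH4.IsMaxPt (f x)) : FlatH4.IsMaxPt x := fun y hy => hf (h _ (hy.map f.continuous))

/-- The orbit of any geometric point under the neutral component is dense in a component. -/
theorem isMaxPt_orbit (a : AlgGrp.Action G X) (hΦ : Surjective (lift a.act (snd G X)).left)
    {K : Type u} [Field K] [IsAlgClosed K] (y : Spec (CommRingCat.of K) ⟶ S)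
    (p : Over.mk y ⟶ X) :
    ∃ η₀ : (Over.mk y ⊗ G).left, (snd (Over.mk y) G).left η₀ ∈ SGA3x.neutralSet G ∧
      (∀ h, (snd (Over.mk y) G).left h ∈ SGA3x.neutralSet G → η₀ ⤳ h) ∧
      FlatH4.IsMaxPt ((lift (fst (Over.mk y) G) (lift (snd (Over.mk y) G) (fst (Over.mk y) G ≫ p) ≫ a.act)).left η₀) := by
  let T : Over S := Over.mk y
  let o : T ⊗ G ⟶ T ⊗ X := lift (fst T G) (lift (snd T G) (fst T G ≫ p) ≫ a.act)
  let L : (T ⟶ G) → (T ⊗ G ⟶ T ⊗ G) := fun g => lift (fst T G) ((fst T G ≫ g) * snd T G)
  let τ : (T ⟶ G) → (T ⊗ X ⟶ T ⊗ X) := fun g => lift (fst T X) (lift (fst T X ≫ g) (snd T X) ≫ a.act)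
  let pt : T.left := (IsLocalRing.closedPoint K : Spec (CommRingCat.of K))
  haveI : Subsingleton T.left := inferInstanceAs (Subsingleton (PrimeSpectrum K))
  have hG := lft_fibres G
  have sq : IsPullback (snd T G).left (fst T G).left G.hom y := (IsPullback.of_hasPullback T.hom G.hom).flip
  let e' : T ⟶ T ⊗ G := lift (𝟙 T) 1
  have hC := isIrreducible_preimage G hG (K := K) (y := y) sq
  have hce := preimage_neutralSet G (K := K) (y := y) sq e'.left
    (show e'.left ≫ (snd T G).left = _ by
      rw [← Over.comp_left, lift_snd, Hom.one_def, Over.comp_left]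
      congr 1)
    (show e'.left ≫ (fst T G).left = _ by rw [← Over.comp_left, lift_fst]; rfl)
  obtain ⟨η₀, hη₀⟩ := QuasiSober.sober hC (hce ▸ isClosed_connectedComponent)
  refine ⟨η₀, hη₀.mem, fun h hh => hη₀.specializes hh, ?_⟩
  -- a maximal point of the target
  obtain ⟨P, hP, -⟩ := FlatH4.exists_isMaxPt_specializes ((lift (𝟙 T) p).left pt)
  -- it is the image of a point of the source
  let T₁ : Over S := Over.mk ((T ⊗ X).left.fromSpecResidueField P ≫ (T ⊗ X).hom)
  let ρ : T₁ ⟶ T ⊗ X := Over.homMk ((T ⊗ X).left.fromSpecResidueField P) rfl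
  let j : T₁ ⟶ X ⊗ X := ρ ≫ lift (snd T X) (fst T X ≫ p)
  let q : T₁.left := (IsLocalRing.closedPoint ((T ⊗ X).left.residueField P) : Spec ((T ⊗ X).left.residueField P))
  obtain ⟨z, hz⟩ := hΦ.surj (j.left q)
  obtain ⟨w₀, hw₁, -⟩ := Scheme.Pullback.exists_preimage_pullback (f := j.left) (g := (lift a.act (snd G X)).left) q z hz.symm
  let T₂ : Over S := Over.mk (pullback.fst j.left (lift a.act (snd G X)).left ≫ T₁.hom)
  let k₁ : T₂ ⟶ T₁ := Over.homMk (pullback.fst j.left (lift a.act (snd G X)).left) rfl
  let k₂ : T₂ ⟶ G ⊗ X := Over.homMk (pullback.snd j.left (lift a.act (snd G X)).left) (by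
    show _ = pullback.fst j.left (lift a.act (snd G X)).left ≫ T₁.hom
    rw [← Over.w j, ← Over.w (lift a.act (snd G X)), ← Category.assoc, ← pullback.condition, Category.assoc])
  have hk : k₁ ≫ j = k₂ ≫ lift a.act (snd G X) := by
    apply Over.OverMorphism.ext
    exact pullback.condition (f := j.left) (g := (lift a.act (snd G X)).left)
  let h := (lift (k₁ ≫ ρ ≫ fst T X) (k₂ ≫ fst G X)).left w₀
  have hoh : o.left h = P := by
    rw [← hap, show lift (k₁ ≫ ρ ≫ fst T X) (k₂ ≫ fst G X) ≫ o = k₁ ≫ ρ from ?_, hap]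
    · exact Scheme.fromSpecResidueField_apply P _
    · have e1 : k₂ ≫ a.act = k₁ ≫ ρ ≫ snd T X := by
        simpa [j] using congrArg (fun φ => φ ≫ fst X X) hk.symm
      have e2 : k₂ ≫ snd G X = k₁ ≫ ρ ≫ fst T X ≫ p := by
        simpa [j] using congrArg (fun φ => φ ≫ snd X X) hk.symm
      apply CartesianMonoidalCategory.hom_ext
      · simp [o]
      · simp only [o, Category.assoc, lift_snd, lift_snd_assoc, comp_lift_assoc, lift_fst_assoc]
        rw [← e2, ← e1, ← comp_lift_assoc, lift_fst_snd, Category.id_comp]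
  -- a rational point in the component of this point
  haveI : LocallyOfFiniteType (fst T G).left :=
    inferInstanceAs (LocallyOfFiniteType (pullback.fst T.hom G.hom))
  haveI : IsLocallyNoetherian T.left := inferInstanceAs (IsLocallyNoetherian (Spec (CommRingCat.of K)))
  haveI : IsLocallyNoetherian (T ⊗ G).left := LocallyOfFiniteType.isLocallyNoetherian (fst T G).left
  haveI : JacobsonSpace T.left := inferInstanceAs (JacobsonSpace (PrimeSpectrum K))
  haveI : JacobsonSpace (T ⊗ G).left := LocallyOfFiniteType.jacobsonSpace (fst T G).left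
  haveI := SectionCompOpen4.locallyConnectedSpace (T ⊗ G).left
  obtain ⟨c, hcC, hc⟩ := nonempty_inter_closedPoints (Z := connectedComponent h)
    ⟨h, mem_connectedComponent⟩ isOpen_connectedComponent.isLocallyClosed
  let pc : T.left ⟶ (T ⊗ G).left := pointOfClosedPoint (K := K) (fst T G).left c hc
  let σ : T ⟶ T ⊗ G := Over.homMk pc (by
    rw [← Over.w (fst T G), ← Category.assoc, pointOfClosedPoint_comp]
    exact Category.id_comp _)
  have hσ : σ ≫ fst T G = 𝟙 T := by ext; exact pointOfClosedPoint_comp _ _ _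
  let g : T ⟶ G := σ ≫ snd T G
  have hLσ : σ ≫ L g⁻¹ = e' := by
    apply CartesianMonoidalCategory.hom_ext
    · simp [L, e', hσ]
    · simp only [L, e', Category.assoc, lift_snd, MonObj.comp_mul, reassoc_of% hσ]
      exact inv_mul_cancel g
  have hLL : L g⁻¹ ≫ L g = 𝟙 _ := by
    apply CartesianMonoidalCategory.hom_ext
    · simp [L]
    · simp only [L, Category.assoc, lift_snd, MonObj.comp_mul, lift_fst_assoc, Category.id_comp]
      rw [← mul_assoc, ← MonObj.comp_mul, mul_inv_cancel]
      simp
  have hh' : (L g⁻¹).left h ∈ (snd T G).left ⁻¹' SGA3x.neutralSet G := by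
    rw [hce]
    have hsub := (L g⁻¹).left.continuous.image_connectedComponent_subset c
    rw [← connectedComponent_eq hcC] at hsub
    have he : (L g⁻¹).left c = e'.left pt := by
      rw [← show σ.left pt = c from pointOfClosedPoint_apply _ _ _ _, ← hap, hLσ]
    show (L g⁻¹).left h ∈ connectedComponent (e'.left pt)
    rw [← he]
    exact hsub ⟨h, mem_connectedComponent, rfl⟩
  have hsp : (o.left ((L g).left η₀)) ⤳ P := by
    rw [← hoh]
    have : (L g).left η₀ ⤳ h := by
      have := (hη₀.specializes hh').map (L g).left.continuous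
      rwa [← hap (L g⁻¹), hLL] at this
    exact this.map o.left.continuous
  have heq := hP _ hsp
  have hτ : L g ≫ o = o ≫ τ g := by
    apply CartesianMonoidalCategory.hom_ext
    · simp [L, τ, o]
    · simp only [L, τ, o, Category.assoc, lift_snd, lift_snd_assoc, comp_lift_assoc, lift_fst_assoc]
      exact AlgGrpBasic19.act_mul a _ _ _
  have hττ : τ g ≫ τ g⁻¹ = 𝟙 _ := by
    apply CartesianMonoidalCategory.hom_ext
    · simp [τ]
    · simp only [τ, Category.assoc, lift_snd, comp_lift_assoc, lift_fst_assoc, Category.id_comp]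
      rw [← AlgGrpBasic19.act_mul, GrpObj.comp_inv, inv_mul_cancel, AlgGrpBasic19.act_one]
  refine isMaxPt_of_map (τ g).left (Function.LeftInverse.injective (g := (τ g⁻¹).left) fun w => ?_) ?_
  · rw [← hap, hττ]; rfl
  · show FlatH4.IsMaxPt ((τ g).left (o.left η₀))
    rw [← hap, ← hτ, hap, heq]
    exact hP

omit [GrpObj G] [LocallyOfFinitePresentation G.hom] in
/-- The maximal points of a fibre lie in every open dense in it. -/
theorem mem_of_dense_fibre (X : Over S) (s : S) (hft : LocallyOfFiniteType (X.hom.fiberToSpecResidueField s))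
    (U : X.left.Opens) (hd : X.hom ⁻¹' {s} ⊆ closure ((U : Set X.left) ∩ X.hom ⁻¹' {s}))
    {z : ↥(X.hom.fiber s)} (hz : FlatH4.IsMaxPt z) : X.hom.fiberι s z ∈ U := by
  haveI : IsLocallyNoetherian (X.hom.fiber s) := @LocallyOfFiniteType.isLocallyNoetherian _ _ (X.hom.fiberToSpecResidueField s) hft _
  refine hz.mem_of_dense (U.2.preimage (X.hom.fiberι s).continuous) fun w => ?_
  rw [(X.hom.fiberι s).isEmbedding.isInducing.closure_eq_preimage_closure_image]
  show _ ∈ closure _
  rw [Set.image_preimage_eq_inter_range, Scheme.Hom.range_fiberι]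
  exact hd ((Scheme.Hom.range_fiberι X.hom s).le ⟨w, rfl⟩)

/-- In a transitive action the translates by the neutral components of an open dense in a fibre contain
that fibre. -/
theorem mem_actSet_of_dense (a : AlgGrp.Action G X) (hΦ : Surjective (lift a.act (snd G X)).left)
    (x : X.left) (hft : LocallyOfFiniteType (X.hom.fiberToSpecResidueField (X.hom x))) (U : X.left.Opens)
    (hd : X.hom ⁻¹' {X.hom x} ⊆ closure ((U : Set X.left) ∩ X.hom ⁻¹' {X.hom x})) : x ∈ actSet a U := by
  let s := X.hom x
  let K := AlgebraicClosure (X.left.residueField x)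
  let xb : Spec (CommRingCat.of K) ⟶ X.left :=
    Spec.map (CommRingCat.ofHom (algebraMap (X.left.residueField x) K)) ≫ X.left.fromSpecResidueField x
  let y := xb ≫ X.hom
  let p : Over.mk y ⟶ X := Over.homMk xb rfl
  obtain ⟨η₀, hη₀, -, hmax⟩ := isMaxPt_orbit a hΦ y p
  let T : Over S := Over.mk y
  let φ : S.residueField s ⟶ CommRingCat.of K :=
    X.hom.residueFieldMap x ≫ CommRingCat.ofHom (algebraMap (X.left.residueField x) K)
  have hy : Spec.map φ ≫ S.fromSpecResidueField s = y := by
    simp only [φ, y, xb, s, Spec.map_comp, Category.assoc, Scheme.Hom.SpecMap_residueFieldMap_fromSpecResidueField]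
  have sqX : IsPullback (snd T X).left (fst T X).left X.hom y := (IsPullback.of_hasPullback T.hom X.hom).flip
  let r : (T ⊗ X).left ⟶ X.hom.fiber s := pullback.lift (snd T X).left ((fst T X).left ≫ Spec.map φ) (by
    rw [sqX.w, Category.assoc, hy])
  have sqr : IsPullback r (fst T X).left (X.hom.fiberToSpecResidueField s) (Spec.map φ) :=
    IsPullback.of_right (h₁₂ := pullback.fst X.hom (S.fromSpecResidueField s))
      (by rw [pullback.lift_fst, hy]; exact sqX) (pullback.lift_snd _ _ _) (IsPullback.of_hasPullback _ _)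
  haveI : Subsingleton ↥(Spec (S.residueField s)) := inferInstanceAs (Subsingleton (PrimeSpectrum _))
  haveI : Flat r := MorphismProperty.of_isPullback sqr.flip (inferInstance : Flat (Spec.map φ))
  have hU := mem_of_dense_fibre X s hft U hd (hmax.map_of_flat r)
  have hr : r ≫ X.hom.fiberι s = (snd T X).left := pullback.lift_fst _ _ _
  rw [← Scheme.Hom.comp_apply, hr, ← hap, lift_snd] at hU
  have hw : (snd G X).left ((lift (snd T G) (fst T G ≫ p)).left η₀) = x := by
    rw [← hap, lift_snd, hap]
    show (Spec.map (CommRingCat.ofHom (algebraMap (X.left.residueField x) K)) ≫ X.left.fromSpecResidueField x) _ = x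
    rw [Scheme.Hom.comp_apply]
    exact Scheme.fromSpecResidueField_apply x _
  rw [← hw]
  refine mem_actSet a ?_ ?_
  · rw [← hap, lift_fst]; exact hη₀
  · rw [← hap]; exact hU

end Groth.Agent.GrpNeutral20
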