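import Groth.Agent.Lib.ConsTop3.Scheme
import Mathlib.AlgebraicGeometry.Morphisms.Smooth
import Mathlib.AlgebraicGeometry.Morphisms.Etale
import Mathlib.RingTheory.FinitePresentation
import Mathlib.AlgebraicGeometry.Morphisms.FlatMono

/-!
# A representable subfunctor cut out by an ind-constructible set is open
-/

universe u

open CategoryTheory Limits AlgebraicGeometry ProCons

set_option linter.style.haveILetI false

namespace Groth.Agent.GrpNeutral20

theorem isIndConstructible_of_isOpen {A : Type u} [CommRing A] {O : Set (Spec (CommRingCat.of A))} (hO : IsOpen O) :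
    IsIndConstructible O := by
  refine ConsTop3.isIndConstructible_of_forall_exists fun p hp => ?_
  obtain ⟨_, ⟨f, rfl⟩, hpf, hfO⟩ := PrimeSpectrum.isTopologicalBasis_basic_opens.exists_subset_of_mem_open hp hO
  exact ⟨_, (PrimeSpectrum.isCompact_basicOpen f).isConstructible (PrimeSpectrum.basicOpen f).2, hpf, hfO⟩

/-- An ind-constructible set containing a closed set contains the closed set of finitely many of its
equations. -/
theorem exists_finset {P : Type u} [CommRing P] (I : Ideal P) {E : Set (Spec (CommRingCat.of P))}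
    (hE : IsIndConstructible E) (h : ∀ p : PrimeSpectrum P, I ≤ p.asIdeal → p ∈ E) :
    ∃ J : Finset P, (J : Set P) ⊆ I ∧ ∀ p : PrimeSpectrum P, (∀ f ∈ J, f ∈ p.asIdeal) → p ∈ E := by
  classical
  obtain ⟨J, hJ⟩ := ConsTop3.exists_finite_inter_subset hE
    (fun f : I => ({p | (f : P) ∈ p.asIdeal} : Set (Spec (CommRingCat.of P))))
    (fun f => ConsTop3.isIndConstructible_compl_iff.1 (isIndConstructible_of_isOpen (PrimeSpectrum.basicOpen (f : P)).2))
    (fun p hp => h p fun f hf => Set.mem_iInter.1 hp ⟨f, hf⟩)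
  refine ⟨J.image Subtype.val, fun f hf => ?_, fun p hp => hJ (Set.mem_iInter₂.2 fun f hf => ?_)⟩
  · obtain ⟨g, -, rfl⟩ := Finset.mem_image.1 hf
    exact g.2
  · exact hp _ (Finset.mem_image_of_mem _ hf)

variable {X Y : Scheme.{u}} (i : X ⟶ Y) [Mono i] (E : Set Y) (hE : IsIndConstructible E)
  (hrep : ∀ (T : Scheme.{u}) (g : T ⟶ Y), (∃ z, z ≫ i = g) ↔ Set.range g ⊆ E)

variable {U : Y.Opens} (hU : IsAffineOpen U) {V : X.Opens} (hV : IsAffineOpen V) (e : V ≤ i ⁻¹ᵁ U)

include hE hrep hU hV in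
theorem smooth_appLE : (i.appLE U V e).hom.Smooth := by
  algebraize [(i.appLE U V e).hom]
  let A := Γ(Y, U)
  let B := Γ(X, V)
  let g : ∀ (C : Type u) [CommRing C] [Algebra A C], Spec (CommRingCat.of C) ⟶ Y :=
    fun C _ _ => Spec.map (CommRingCat.ofHom (algebraMap A C)) ≫ hU.fromSpec
  have hg : ∀ {C D : Type u} [CommRing C] [Algebra A C] [CommRing D] [Algebra A D] (q : C →ₐ[A] D),
      Spec.map (CommRingCat.ofHom q.toRingHom) ≫ g C = g D := fun {C D} _ _ _ _ q => by
    simp only [g, ← Category.assoc, ← Spec.map_comp, ← CommRingCat.ofHom_comp]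
    congr 3
    exact q.comp_algebraMap
  have hgB : g B = hV.fromSpec ≫ i := IsAffineOpen.SpecMap_appLE_fromSpec i hU hV e
  -- algebra maps out of `B` are unique
  have huniq : ∀ {C : Type u} [CommRing C] [Algebra A C] (φ ψ : B →ₐ[A] C), φ = ψ := fun {C} _ _ φ ψ => by
    have h : Spec.map (CommRingCat.ofHom φ.toRingHom) ≫ hV.fromSpec = Spec.map (CommRingCat.ofHom ψ.toRingHom) ≫ hV.fromSpec := by
      rw [← cancel_mono i, Category.assoc, Category.assoc, ← hgB, hg, hg]
    rw [cancel_mono] at h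
    exact AlgHom.ext fun b => congrArg (fun f => f.hom b) (Spec.map_injective h)
  have hex : ∀ {C : Type u} [CommRing C] [Algebra A C] (z : Spec (CommRingCat.of C) ⟶ X), z ≫ i = g C →
      Set.range z ⊆ V → Nonempty (B →ₐ[A] C) := fun {C} _ _ z hz hzV => by
    let l := IsOpenImmersion.lift hV.fromSpec z (by rw [hV.range_fromSpec]; exact hzV)
    obtain ⟨φ, hφ⟩ := Spec.map_surjective l
    refine ⟨{ toRingHom := φ.hom, commutes' := fun a => ?_ }⟩
    have h : Spec.map ((i.appLE U V e) ≫ φ) ≫ hU.fromSpec = Spec.map (CommRingCat.ofHom (algebraMap A C)) ≫ hU.fromSpec := by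
      rw [Spec.map_comp, Category.assoc, IsAffineOpen.SpecMap_appLE_fromSpec i hU hV e, hφ, ← Category.assoc,
        IsOpenImmersion.lift_fac, hz]
    rw [cancel_mono] at h
    exact congrArg (fun f => f.hom a) (Spec.map_injective h)
  have hBE : Set.range (g B) ⊆ E := (hrep _ _).1 ⟨hV.fromSpec, hgB.symm⟩
  refine ⟨Algebra.FormallySmooth.of_comp_surjective fun C _ _ I hI ψ => ?_, ?_⟩
  · let q := Ideal.Quotient.mkₐ A I
    haveI : Surjective (Spec.map (CommRingCat.ofHom q.toRingHom)) := ⟨fun p => by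
      refine (Set.ext_iff.1 (range_comap_of_surjective _ q.toRingHom Ideal.Quotient.mk_surjective) p).2 ?_
      intro x hx
      have hx' : x ∈ I := Ideal.Quotient.eq_zero_iff_mem.1 hx
      refine p.2.mem_of_pow_mem 2 ?_
      have : x ^ 2 ∈ I ^ 2 := Ideal.pow_mem_pow hx' 2
      rw [hI] at this
      rw [(Ideal.mem_bot).1 this]
      exact zero_mem _⟩
    have hC : Set.range (g C) ⊆ E := by
      rintro _ ⟨p, rfl⟩
      obtain ⟨p', rfl⟩ := (Spec.map (CommRingCat.ofHom q.toRingHom)).surjective p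
      rw [← Scheme.Hom.comp_apply, hg, ← hg ψ, Scheme.Hom.comp_apply]
      exact hBE ⟨_, rfl⟩
    obtain ⟨z, hz⟩ := (hrep _ _).2 hC
    have hqz : Spec.map (CommRingCat.ofHom q.toRingHom) ≫ z = Spec.map (CommRingCat.ofHom ψ.toRingHom) ≫ hV.fromSpec := by
      rw [← cancel_mono i, Category.assoc, Category.assoc, hz, ← hgB, hg, hg]
    obtain ⟨φ⟩ := hex z hz (by
      rintro _ ⟨p, rfl⟩
      obtain ⟨p', rfl⟩ := (Spec.map (CommRingCat.ofHom q.toRingHom)).surjective p
      rw [← Scheme.Hom.comp_apply, hqz, Scheme.Hom.comp_apply, ← hV.range_fromSpec]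
      exact ⟨_, rfl⟩)
    exact ⟨φ, huniq _ _⟩
  · -- finite presentation
    classical
    let P := MvPolynomial B A
    let π : P →ₐ[A] B := MvPolynomial.aeval id
    have hπ : Function.Surjective π := fun b => ⟨MvPolynomial.X b, MvPolynomial.aeval_X _ b⟩
    have hker : ∀ p : PrimeSpectrum P, RingHom.ker π.toRingHom ≤ p.asIdeal →
        ∃ p', Spec.map (CommRingCat.ofHom π.toRingHom) p' = p := fun p hp =>
      (Set.ext_iff.1 (range_comap_of_surjective _ π.toRingHom hπ) p).2 hp
    obtain ⟨J, hJ, hJE⟩ := exists_finset (RingHom.ker π.toRingHom)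
      (ConsH13.isIndConstructible_preimage (g P) hE) fun p hp => by
        obtain ⟨p', rfl⟩ := hker p hp
        show g P (Spec.map (CommRingCat.ofHom π.toRingHom) p') ∈ E
        rw [← Scheme.Hom.comp_apply, hg]
        exact hBE ⟨_, rfl⟩
    let C₁ := P ⧸ Ideal.span (J : Set P)
    let q₁ : P →ₐ[A] C₁ := Ideal.Quotient.mkₐ A _
    have hq₁ : ∀ p : Spec (CommRingCat.of C₁), ∀ f ∈ J, f ∈ (Spec.map (CommRingCat.ofHom q₁.toRingHom) p).asIdeal :=
      fun p f hf => by
        show q₁ f ∈ p.asIdeal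
        rw [show q₁ f = 0 from Ideal.Quotient.eq_zero_iff_mem.2 (Ideal.subset_span hf)]
        exact zero_mem _
    obtain ⟨z₁, hz₁⟩ := (hrep _ (g C₁)).2 (by
      rintro _ ⟨p, rfl⟩
      rw [← hg q₁, Scheme.Hom.comp_apply]
      exact hJE _ (hq₁ p))
    have hemb := PrimeSpectrum.isClosedEmbedding_comap_of_surjective _ q₁.toRingHom Ideal.Quotient.mk_surjective
    let K : Set (PrimeSpectrum P) := PrimeSpectrum.comap q₁.toRingHom '' (z₁ ⁻¹' (V : Set X)ᶜ)
    have hKc : IsClosed K := hemb.isClosedMap _ (V.2.isClosed_compl.preimage z₁.continuous)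
    let π₁ : C₁ →ₐ[A] B := Ideal.Quotient.liftₐ _ π fun f hf =>
      (Ideal.span_le (I := RingHom.ker π.toRingHom)).2 hJ hf
    obtain ⟨J', hJ', hJK⟩ := exists_finset (RingHom.ker π.toRingHom)
      (isIndConstructible_of_isOpen (O := Kᶜ) hKc.isOpen_compl) fun p hp => by
        obtain ⟨p', rfl⟩ := hker p hp
        rintro ⟨c, hc, hcp⟩
        have h0 : Spec.map (CommRingCat.ofHom π₁.toRingHom) ≫ z₁ = hV.fromSpec := by
          rw [← cancel_mono i, Category.assoc, hz₁, hg, hgB]
        have e1 : c = Spec.map (CommRingCat.ofHom π₁.toRingHom) p' := by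
          refine hemb.injective (hcp.trans ?_)
          rfl
        apply hc
        rw [e1, ← Scheme.Hom.comp_apply, h0, ← hV.range_fromSpec]
        exact ⟨p', rfl⟩
    let T : Finset B := (J ∪ J').biUnion MvPolynomial.vars
    let P' := MvPolynomial T A
    let r : P →ₐ[A] P' := MvPolynomial.aeval fun b => if h : b ∈ T then MvPolynomial.X ⟨b, h⟩ else 0
    let ε : P' →ₐ[A] P := MvPolynomial.rename Subtype.val
    have hεr : ∀ f ∈ J ∪ J', ε (r f) = f := fun f hf => by
      show (ε.comp r) f = (AlgHom.id A P) f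
      rw [MvPolynomial.aeval_unique (ε.comp r), MvPolynomial.aeval_unique (AlgHom.id A P)]
      refine MvPolynomial.eval₂Hom_congr' rfl (fun b hb _ => ?_) rfl
      have hbT : b ∈ T := Finset.mem_biUnion.2 ⟨f, hf, hb⟩
      simp [ε, r, hbT, P', P]
    let I' : Ideal P' := Ideal.span (r '' ((J ∪ J' : Finset P) : Set P))
    let C := P' ⧸ I'
    haveI : Algebra.FinitePresentation A C :=
      Algebra.FinitePresentation.quotient (Submodule.fg_span (((J ∪ J').finite_toSet).image _))
    let q' : P' →ₐ[A] C := Ideal.Quotient.mkₐ A I'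
    have hz0 : ∀ f ∈ J ∪ J', q' (r f) = 0 := fun f hf =>
      Ideal.Quotient.eq_zero_iff_mem.2 (Ideal.subset_span ⟨f, hf, rfl⟩)
    let r₁ : C₁ →ₐ[A] C := Ideal.Quotient.liftₐ _ (q'.comp r) fun f hf => by
      refine (Ideal.span_le (I := RingHom.ker (q'.comp r).toRingHom)).2 (fun f hf => ?_) hf
      exact hz0 f (Finset.mem_union_left _ hf)
    let πC : C →ₐ[A] B := Ideal.Quotient.liftₐ _ (π.comp ε) fun f hf => by
      refine (Ideal.span_le (I := RingHom.ker (π.comp ε).toRingHom)).2 ?_ hf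
      rintro _ ⟨f, hf, rfl⟩
      show π (ε (r f)) = 0
      rw [hεr f hf]
      rcases Finset.mem_union.1 hf with h | h
      · exact hJ h
      · exact hJ' h
    let z : Spec (CommRingCat.of C) ⟶ X := Spec.map (CommRingCat.ofHom r₁.toRingHom) ≫ z₁
    obtain ⟨φ⟩ := hex z (by rw [Category.assoc, hz₁, hg]) (by
      rintro _ ⟨p, rfl⟩
      by_contra hp
      rw [Scheme.Hom.comp_apply] at hp
      refine hJK (PrimeSpectrum.comap (q'.comp r).toRingHom p) (fun f hf => ?_) ⟨_, hp, rfl⟩
      show q' (r f) ∈ p.asIdeal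
      rw [hz0 f (Finset.mem_union_right _ hf)]
      exact zero_mem _)
    have hφ : πC.comp φ = AlgHom.id A B := huniq _ _
    let gen : T → C := fun t => q' (MvPolynomial.X t)
    let L : Ideal C := Ideal.span (Set.range fun t => gen t - φ (πC (gen t)))
    have hcomp : (Ideal.Quotient.mkₐ A L).comp (φ.comp πC) = Ideal.Quotient.mkₐ A L :=
      Ideal.Quotient.algHom_ext A (MvPolynomial.algHom_ext fun t => ((Ideal.Quotient.eq (I := L)
        (x := gen t) (y := φ (πC (gen t)))).2 (Ideal.subset_span ⟨t, rfl⟩)).symm)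
    refine Algebra.FinitePresentation.of_surjective (f := πC) (fun b => ⟨φ b, AlgHom.congr_fun hφ b⟩) ?_
    suffices RingHom.ker πC.toRingHom = L by rw [this]; exact Submodule.fg_span (Set.finite_range _)
    refine le_antisymm (fun x hx => ?_) (Ideal.span_le.2 ?_)
    · have h := AlgHom.congr_fun hcomp x
      rw [AlgHom.comp_apply, AlgHom.comp_apply, show πC x = 0 from hx, map_zero, map_zero] at h
      exact Ideal.Quotient.eq_zero_iff_mem.1 h.symm
    · rintro _ ⟨t, rfl⟩
      show πC (gen t - φ (πC (gen t))) = 0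
      rw [map_sub, ← AlgHom.comp_apply πC φ, hφ, AlgHom.id_apply, sub_self]

include hE hrep in
/-- A monomorphism representing the morphisms landing in an ind-constructible set is an open immersion. -/
theorem isOpenImmersion_of_represents : IsOpenImmersion i := by
  haveI : Smooth i := by
    rw [HasRingHomProperty.iff_appLE (P := @Smooth)]
    rintro ⟨U, hU⟩ ⟨V, hV⟩ e
    exact smooth_appLE i E hE hrep hU hV e
  haveI : Flat i := inferInstance
  exact IsOpenImmersion.of_flat_of_mono i

end Groth.Agent.GrpNeutral20
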