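import Groth.Agent.Lib.GrpNeutral20.OpenOver
import Groth.Agent.Lib.RedSep.Basic

/-!
# Points with a power in the neutral components
-/

set_option autoImplicit false
set_option linter.style.haveILetI false
set_option backward.isDefEq.respectTransparency false

universe u

open CategoryTheory Limits MonoidalCategory CartesianMonoidalCategory AlgebraicGeometry Topology
open scoped MonObj

namespace Groth.Agent.GrpNeutral20

variable {S : Scheme.{u}} [IsLocallyNoetherian S] (G : Over S) [GrpObj G] [LocallyOfFiniteType G.hom]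

/-- Near every point of the base a point specializing to the neutral components from that fibre lies in them. -/
theorem exists_nhd_reflect (s : S) : ∃ O : S.Opens, s ∈ O ∧ ∀ z z' : G.left, z ⤳ z' → G.hom z = s →
    G.hom z' ∈ O → z' ∈ SGA3x.neutralSet G → z ∈ SGA3x.neutralSet G := by
  let Zc : TopologicalSpace.Closeds S := ⟨closure {s}, isClosed_closure⟩
  let Z := (Scheme.IdealSheafData.vanishingIdeal Zc).subscheme
  let emb : Z ⟶ S := (Scheme.IdealSheafData.vanishingIdeal Zc).subschemeι
  haveI : IsClosedImmersion emb := inferInstanceAs (IsClosedImmersion (Scheme.IdealSheafData.subschemeι _))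
  have hemb : Set.range emb = closure {s} := by
    show Set.range (Scheme.IdealSheafData.subschemeι _) = _
    rw [Scheme.IdealSheafData.range_subschemeι]; simp [Zc]
  obtain ⟨s₀, hs₀⟩ : s ∈ Set.range emb := hemb.ge (subset_closure rfl)
  haveI : Nonempty Z := ⟨s₀⟩
  haveI : IsLocallyNoetherian Z := LocallyOfFiniteType.isLocallyNoetherian emb
  haveI : LocallyOfFiniteType (Red.bc emb G).hom := inferInstanceAs (LocallyOfFiniteType (pullback.snd G.hom emb))
  obtain ⟨V, ⟨v, hv⟩, ho⟩ := exists_open_isOpen (Red.bc emb G)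
  have hgen : ∀ w : Z, s₀ ⤳ w := fun w => emb.isClosedEmbedding.isInducing.specializes_iff.1
    (hs₀ ▸ specializes_iff_mem_closure.2 (hemb.le ⟨w, rfl⟩))
  obtain ⟨O, hO, hOV⟩ := emb.isClosedEmbedding.isInducing.isOpen_iff.1 V.2
  refine ⟨⟨O, hO⟩, ?_, fun z z' hzz hz hz'O hz' => ?_⟩
  · have : s₀ ∈ emb ⁻¹' O := hOV.symm ▸ (hgen v).mem_open V.2 hv
    exact hs₀ ▸ this
  · let q : (Red.bc emb G).left ⟶ G.left := pullback.fst G.hom emb
    haveI : IsClosedImmersion q := inferInstanceAs (IsClosedImmersion (pullback.fst G.hom emb))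
    obtain ⟨w', hw'⟩ : G.hom z' ∈ Set.range emb :=
      hemb.ge (specializes_iff_mem_closure.1 (hz ▸ hzz.map G.hom.continuous))
    obtain ⟨y, hy, -⟩ := Scheme.Pullback.exists_preimage_pullback (f := G.hom) (g := emb) z s₀ (hz.trans hs₀.symm)
    obtain ⟨y', hy', hy'2⟩ := Scheme.Pullback.exists_preimage_pullback (f := G.hom) (g := emb) z' w' hw'.symm
    have hyy : y ⤳ y' := q.isClosedEmbedding.isInducing.specializes_iff.1
      (show q y ⤳ q y' by rwa [show q y = z from hy, show q y' = z' from hy'])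
    have hy'N : y' ∈ SGA3x.neutralSet (Red.bc emb G) := by
      rw [neutralSet_bc]; show q y' ∈ SGA3x.neutralSet G; rwa [show q y' = z' from hy']
    have hy'V : (Red.bc emb G).hom y' ∈ V := by
      show (Red.bc emb G).hom y' ∈ (V : Set Z)
      rw [show (V : Set Z) = emb ⁻¹' O from hOV.symm, show (Red.bc emb G).hom y' = w' from hy'2]
      show emb w' ∈ O
      rwa [hw']
    have := (hyy.mem_open ho ⟨hy'N, hy'V⟩).1
    rw [neutralSet_bc] at this
    exact (show q y = z from hy) ▸ this

omit [IsLocallyNoetherian S] [LocallyOfFiniteType G.hom] in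
/-- The powers of a point inside the neutral components: the multiples of one exponent. -/
theorem dvd_of_pow_mem (x : G.left) {m n : ℕ} (hm : 0 < m)
    (hmin : ∀ k, 0 < k → k < m → ((𝟙 G : G ⟶ G) ^ k).left x ∉ SGA3x.neutralSet G)
    (h1 : ((𝟙 G : G ⟶ G) ^ m).left x ∈ SGA3x.neutralSet G)
    (h2 : ((𝟙 G : G ⟶ G) ^ n).left x ∈ SGA3x.neutralSet G) : m ∣ n := by
  let mem (a : G ⟶ G) : Prop := a.left x ∈ SGA3x.neutralSet G
  have hmul : ∀ a b : G ⟶ G, mem a → mem b → mem (a * b) := fun a b ha hb => by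
    show (a * b).left x ∈ _
    rw [Hom.mul_def, hap]
    refine mul_mem G _ ?_ ?_
    · rw [← hap, lift_fst]; exact ha
    · rw [← hap, lift_snd]; exact hb
  have hinv : ∀ a : G ⟶ G, mem a → mem a⁻¹ := fun a ha => by
    show (a⁻¹).left x ∈ _
    rw [← Category.comp_id a, ← GrpObj.comp_inv, ← GrpObj.inv_eq_inv, hap]
    exact inv_mem G ha
  have hone : mem 1 := by
    show (1 : G ⟶ G).left x ∈ _
    rw [Hom.one_def, hap]; exact unit_mem G _
  let H : Subgroup (G ⟶ G) :=
    { carrier := {a | mem a}, mul_mem' := fun ha hb => hmul _ _ ha hb, one_mem' := hone, inv_mem' := fun ha => hinv _ ha }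
  rcases Nat.eq_zero_or_pos (n % m) with h0 | h0
  · exact Nat.dvd_of_mod_eq_zero h0
  refine absurd (show (𝟙 G : G ⟶ G) ^ (n % m) ∈ H from ?_) (hmin _ h0 (Nat.mod_lt _ hm))
  have h3 : (𝟙 G : G ⟶ G) ^ n ∈ H := h2
  have h4 : (𝟙 G : G ⟶ G) ^ (m * (n / m)) ∈ H := by rw [pow_mul]; exact H.pow_mem h1 _
  rw [← Nat.mod_add_div n m, pow_add] at h3
  exact (H.mul_mem_cancel_right h4).1 h3

omit [LocallyOfFiniteType G.hom] [GrpObj G] in
/-- Closedness from stability under specialization and separation along closures of points. -/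
theorem isClosed_of_specializes {Y : Scheme.{u}} [IsLocallyNoetherian Y] (F : Set Y)
    (hstab : ∀ x y, x ⤳ y → x ∈ F → y ∈ F)
    (hsep : ∀ x, x ∉ F → ∃ O : Set Y, IsOpen O ∧ x ∈ O ∧ ∀ y ∈ O, x ⤳ y → y ∉ F) : IsClosed F := by
  refine isClosed_of_closure_subset fun z hz => ?_
  obtain ⟨U, hU, hzU, -⟩ := exists_isAffineOpen_mem_and_subset (X := Y) (x := z) (U := ⊤) trivial
  haveI : IsAffine U.toScheme := hU
  haveI : IsNoetherian U.toScheme := {}
  let F' : Set U.toScheme := U.ι ⁻¹' F
  have key : ∀ Z : TopologicalSpace.Closeds U.toScheme, closure (F' ∩ (Z : Set U.toScheme)) ⊆ F' := by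
    intro Z
    induction Z using WellFoundedLT.induction with
    | ind Z ih =>
      by_cases hirr : IsPreirreducible (Z : Set U.toScheme)
      · rcases (Z : Set U.toScheme).eq_empty_or_nonempty with he | hne
        · simp [he]
        obtain ⟨x, hx⟩ := QuasiSober.sober (α := U.toScheme) ⟨hne, hirr⟩ Z.2
        by_cases hxF : x ∈ F'
        · refine (closure_minimal Set.inter_subset_right Z.2).trans fun y hy => ?_
          exact hstab _ _ ((hx.specializes hy).map U.ι.continuous) hxF
        obtain ⟨O, hO, hxO, hOF⟩ := hsep _ hxF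
        have hO' : IsOpen (U.ι ⁻¹' O) := hO.preimage U.ι.continuous
        let Z' : TopologicalSpace.Closeds U.toScheme :=
          ⟨(Z : Set U.toScheme) \ U.ι ⁻¹' O, Z.2.sdiff hO'⟩
        have hlt : Z' < Z := lt_of_le_of_ne (fun y hy => hy.1) fun e => by
          have : x ∈ (Z' : Set U.toScheme) := e.symm ▸ hx.mem
          exact this.2 hxO
        refine (closure_mono ?_).trans (ih Z' hlt)
        exact fun y hy => ⟨hy.1, hy.2, fun hyO => hOF _ hyO ((hx.specializes hy.2).map U.ι.continuous) hy.1⟩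
      · rw [isPreirreducible_iff_isClosed_union_isClosed] at hirr
        push Not at hirr
        obtain ⟨z₁, z₂, h₁, h₂, h, hn₁, hn₂⟩ := hirr
        let Z₁ : TopologicalSpace.Closeds U.toScheme := ⟨(Z : Set U.toScheme) ∩ z₁, Z.2.inter h₁⟩
        let Z₂ : TopologicalSpace.Closeds U.toScheme := ⟨(Z : Set U.toScheme) ∩ z₂, Z.2.inter h₂⟩
        have l₁ : Z₁ < Z := lt_of_le_of_ne (fun y hy => hy.1) fun e => hn₁ fun y hy => (e.symm ▸ hy : y ∈ Z₁).2
        have l₂ : Z₂ < Z := lt_of_le_of_ne (fun y hy => hy.1) fun e => hn₂ fun y hy => (e.symm ▸ hy : y ∈ Z₂).2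
        refine (closure_mono (t := (F' ∩ (Z₁ : Set U.toScheme)) ∪ (F' ∩ (Z₂ : Set U.toScheme))) ?_).trans ?_
        · exact fun y hy => (h hy.2).imp (fun h' => ⟨hy.1, hy.2, h'⟩) fun h' => ⟨hy.1, hy.2, h'⟩
        · rw [closure_union]
          exact Set.union_subset (ih Z₁ l₁) (ih Z₂ l₂)
  have hz' : (⟨z, hzU⟩ : U.toScheme) ∈ closure F' := by
    rw [show closure F' = U.ι ⁻¹' closure F from
      (U.ι.isOpenEmbedding.isOpenMap.preimage_closure_eq_closure_preimage U.ι.continuous F).symm]
    exact hz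
  have := key ⊤ (by simpa using hz')
  exact this

omit [IsLocallyNoetherian S] in
/-- The primes invertible at a point of the base are invertible at its generizations. -/
theorem natCast_ne_zero_of_specializes {s t : S} (h : s ⤳ t) (n : ℕ) (hn : (n : S.residueField t) ≠ 0) :
    (n : S.residueField s) ≠ 0 := by
  have key : ∀ a : S, a ∈ S.basicOpen (n : Γ(S, ⊤)) ↔ (n : S.residueField a) ≠ 0 := fun a => by
    rw [S.mem_basicOpen (U := ⊤) _ a trivial, map_natCast, ← IsLocalRing.residue_ne_zero_iff_isUnit, map_natCast]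
  exact (key s).1 (h.mem_open (S.basicOpen _).2 ((key t).2 hn))

omit [IsLocallyNoetherian S] in
/-- The open set where a natural number is invertible. -/
theorem isOpen_natCast_ne_zero (n : ℕ) : IsOpen {s : S | (n : S.residueField s) ≠ 0} := by
  convert (S.basicOpen (n : Γ(S, ⊤))).2 using 1
  ext a
  show _ ↔ a ∈ S.basicOpen (n : Γ(S, ⊤))
  rw [S.mem_basicOpen (U := ⊤) _ a trivial, map_natCast, ← IsLocalRing.residue_ne_zero_iff_isUnit, map_natCast]
  rfl

end Groth.Agent.GrpNeutral20
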