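import Groth.Agent.Lib.GrpNeutral20.Tau

/-!
# The points with a power in the neutral components form an open set
-/

set_option autoImplicit false
set_option linter.style.haveILetI false
set_option backward.isDefEq.respectTransparency false

universe u

open CategoryTheory Limits MonoidalCategory CartesianMonoidalCategory AlgebraicGeometry Topology
open scoped MonObj

namespace Groth.Agent.GrpNeutral20

variable {S : Scheme.{u}} [IsLocallyNoetherian S] (G : Over S) [GrpObj G] [LocallyOfFiniteType G.hom]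

/-- Near a point of the neutral components its specializations lie in them. -/
theorem exists_nhd_subset {z : G.left} (hz : z ∈ SGA3x.neutralSet G) : ∃ Q : Set G.left, IsOpen Q ∧ z ∈ Q ∧
    ∀ z', z ⤳ z' → z' ∈ Q → z' ∈ SGA3x.neutralSet G := by
  let s := G.hom z
  let Zc : TopologicalSpace.Closeds S := ⟨closure {s}, isClosed_closure⟩
  let Z := (Scheme.IdealSheafData.vanishingIdeal Zc).subscheme
  let emb : Z ⟶ S := (Scheme.IdealSheafData.vanishingIdeal Zc).subschemeι
  haveI : IsClosedImmersion emb := inferInstanceAs (IsClosedImmersion (Scheme.IdealSheafData.subschemeι _))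
  have hι : Set.range emb = closure {s} := by
    show Set.range (Scheme.IdealSheafData.subschemeι _) = _
    rw [Scheme.IdealSheafData.range_subschemeι]; simp [Zc]
  obtain ⟨s₀, hs₀⟩ : s ∈ Set.range emb := hι.ge (subset_closure rfl)
  haveI : Nonempty Z := ⟨s₀⟩
  haveI : IsLocallyNoetherian Z := LocallyOfFiniteType.isLocallyNoetherian emb
  haveI : LocallyOfFiniteType (Red.bc emb G).hom := inferInstanceAs (LocallyOfFiniteType (pullback.snd G.hom emb))
  obtain ⟨V, ⟨v, hv⟩, ho⟩ := exists_open_isOpen (Red.bc emb G)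
  have hgen : ∀ w : Z, s₀ ⤳ w := fun w => emb.isClosedEmbedding.isInducing.specializes_iff.1
    (hs₀ ▸ specializes_iff_mem_closure.2 (hι.le ⟨w, rfl⟩))
  let q : (Red.bc emb G).left ⟶ G.left := pullback.fst G.hom emb
  haveI : IsClosedImmersion q := inferInstanceAs (IsClosedImmersion (pullback.fst G.hom emb))
  obtain ⟨Q, hQ, hQV⟩ := q.isClosedEmbedding.isInducing.isOpen_iff.1 ho
  obtain ⟨y, hy, hy2⟩ := Scheme.Pullback.exists_preimage_pullback (f := G.hom) (g := emb) z s₀ hs₀.symm
  have hyQ : y ∈ q ⁻¹' Q := by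
    rw [hQV]
    refine ⟨?_, ?_⟩
    · rw [neutralSet_bc]; show q y ∈ SGA3x.neutralSet G; rwa [show q y = z from hy]
    · show (Red.bc emb G).hom y ∈ (V : Set Z)
      rw [show (Red.bc emb G).hom y = s₀ from hy2]
      exact (hgen v).mem_open V.2 hv
  refine ⟨Q, hQ, (show q y = z from hy) ▸ hyQ, fun z' hzz hz'Q => ?_⟩
  obtain ⟨w', hw'⟩ : G.hom z' ∈ Set.range emb :=
    hι.ge (specializes_iff_mem_closure.1 (hzz.map G.hom.continuous))
  obtain ⟨y', hy', -⟩ := Scheme.Pullback.exists_preimage_pullback (f := G.hom) (g := emb) z' w' hw'.symm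
  have h : y' ∈ q ⁻¹' Q := by show q y' ∈ Q; rwa [show q y' = z' from hy']
  rw [hQV] at h
  have h' := h.1
  rw [neutralSet_bc] at h'
  exact (show q y' = z' from hy') ▸ h'

/-- A generization of a point with a power in the neutral components has one too. -/
theorem exists_pow_mem_of_specializes {x y : G.left} (hxy : x ⤳ y) {n : ℕ} (hn : 0 < n)
    (hy : ((𝟙 G : G ⟶ G) ^ n).left y ∈ SGA3x.neutralSet G) :
    ∃ m, 0 < m ∧ ((𝟙 G : G ⟶ G) ^ m).left x ∈ SGA3x.neutralSet G := by
  classical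
  have hnat : ∀ (m : ℕ) (z : G.left), G.hom (((𝟙 G : G ⟶ G) ^ m).left z) = G.hom z := fun m z => by
    rw [← Scheme.Hom.comp_apply, Over.w ((𝟙 G : G ⟶ G) ^ m)]
  -- all powers of the `n`-th power of `x` stay in a quasi-compact open
  obtain ⟨U, hU, hyU, -⟩ := exists_isAffineOpen_mem_and_subset (X := S) (x := G.hom y) (U := ⊤) trivial
  haveI : IsAffine U.toScheme := hU
  haveI : LocallyOfFiniteType (Red.bc U.ι G).hom := inferInstanceAs (LocallyOfFiniteType (pullback.snd G.hom U.ι))
  obtain ⟨W₀, hW₀, hsub⟩ := exists_isCompact_open (Red.bc U.ι G) (lft_fibres _)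
  let r : (Red.bc U.ι G).left ⟶ G.left := pullback.fst G.hom U.ι
  haveI : IsOpenImmersion r := inferInstanceAs (IsOpenImmersion (pullback.fst G.hom U.ι))
  let W : G.left.Opens := r ''ᵁ W₀
  have hpow : ∀ k : ℕ, ((𝟙 G : G ⟶ G) ^ (n * k)).left x ∈ W := fun k => by
    refine (hxy.map ((𝟙 G : G ⟶ G) ^ (n * k)).left.continuous).mem_open W.2 ?_
    have hk : ((𝟙 G : G ⟶ G) ^ (n * k)).left y ∈ SGA3x.neutralSet G := by
      induction k with
      | zero => rw [Nat.mul_zero, pow_zero, Hom.one_def, hap]; exact unit_mem G _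
      | succ k ih =>
        rw [Nat.mul_succ, pow_add, Hom.mul_def, hap]
        refine mul_mem G _ ?_ ?_
        · rw [← hap, lift_fst]; exact ih
        · rw [← hap, lift_snd]; exact hy
    obtain ⟨z, hz, -⟩ := Scheme.Pullback.exists_preimage_pullback (f := G.hom) (g := U.ι)
      (((𝟙 G : G ⟶ G) ^ (n * k)).left y) ⟨G.hom y, hyU⟩ (hnat _ y)
    refine ⟨z, hsub ?_, hz⟩
    rw [neutralSet_bc]
    show r z ∈ SGA3x.neutralSet G
    rwa [show r z = _ from hz]
  -- the geometric point at `x`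
  let Ω := AlgebraicClosure (G.left.residueField x)
  let pt : Spec (CommRingCat.of Ω) ⟶ G.left :=
    Spec.map (CommRingCat.ofHom (algebraMap (G.left.residueField x) Ω)) ≫ G.left.fromSpecResidueField x
  let T : Over S := Over.mk (pt ≫ G.hom)
  let a : T ⟶ G := Over.homMk pt rfl
  let o : T.left := (IsLocalRing.closedPoint Ω : PrimeSpectrum Ω)
  have hao : a.left o = x := by
    show (Spec.map _ ≫ G.left.fromSpecResidueField x) o = x
    rw [Scheme.Hom.comp_apply]; exact Scheme.fromSpecResidueField_apply x _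
  have hak : ∀ k : ℕ, (a ^ k).left o = ((𝟙 G : G ⟶ G) ^ k).left x := fun k => by
    rw [← hao, ← hap, MonObj.comp_pow, Category.comp_id]
  haveI : CompactSpace T.left := inferInstanceAs (CompactSpace (PrimeSpectrum Ω))
  haveI : QuasiCompact T.hom := quasiCompact_of_compactSpace _
  haveI : QuasiCompact (fst G T).left := inferInstanceAs (QuasiCompact (pullback.fst G.hom T.hom))
  haveI : LocallyOfFiniteType (snd G T).left := inferInstanceAs (LocallyOfFiniteType (pullback.snd G.hom T.hom))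
  haveI : IsLocallyNoetherian T.left := inferInstanceAs (IsLocallyNoetherian (Spec (CommRingCat.of Ω)))
  haveI : IsLocallyNoetherian (G ⊗ T).left := LocallyOfFiniteType.isLocallyNoetherian (snd G T).left
  let WΩ : (G ⊗ T).left.Opens := (fst G T).left ⁻¹ᵁ W
  haveI : CompactSpace WΩ.toScheme := isCompact_iff_compactSpace.1
    ((fst G T).left.isCompact_preimage (hW₀.image r.continuous))
  haveI : IsLocallyNoetherian WΩ.toScheme := LocallyOfFiniteType.isLocallyNoetherian WΩ.ι
  haveI : AlgebraicGeometry.IsNoetherian WΩ.toScheme := {}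
  have hsec : ∀ k : ℕ, (lift (a ^ (n * k)) (𝟙 T)).left o ∈ WΩ := fun k => by
    show (fst G T).left ((lift (a ^ (n * k)) (𝟙 T)).left o) ∈ W
    rw [← hap, lift_fst, hak]
    exact hpow k
  have hfin : (irreducibleComponents WΩ.toScheme).Finite :=
    TopologicalSpace.NoetherianSpace.finite_irreducibleComponents
  haveI := hfin.to_subtype
  obtain ⟨k, l, hkl, hC⟩ := Finite.exists_ne_map_eq_of_infinite
    (fun k : ℕ => (⟨irreducibleComponent (⟨_, hsec k⟩ : WΩ.toScheme),
      irreducibleComponent_mem_irreducibleComponents _⟩ : irreducibleComponents WΩ.toScheme))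
  wlog hlt : k < l generalizing k l
  · exact this l k hkl.symm hC.symm (lt_of_le_of_ne (not_lt.1 hlt) hkl.symm)
  let C : Set (G ⊗ T).left := WΩ.ι '' irreducibleComponent (⟨_, hsec k⟩ : WΩ.toScheme)
  have hCconn : _root_.IsPreconnected C :=
    isIrreducible_irreducibleComponent.isConnected.isPreconnected.image _ WΩ.ι.continuous.continuousOn
  let ψ : G ⊗ T ⟶ G := fst G T * (snd G T ≫ (a ^ (n * k))⁻¹)
  have hψ : ∀ j : ℕ, lift (a ^ (n * j)) (𝟙 T) ≫ ψ = a ^ (n * j) * (a ^ (n * k))⁻¹ := fun j => by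
    simp only [ψ, MonObj.comp_mul, lift_fst, lift_snd_assoc, Category.id_comp]
  have hψk : ψ.left ((lift (a ^ (n * k)) (𝟙 T)).left o) = η[G].left (G.hom x) := by
    rw [← hap, hψ, mul_inv_cancel, Hom.one_def, hap]
    refine congrArg η[G].left.base ?_
    rw [← hao, ← Scheme.Hom.comp_apply, Over.w a]
    rfl
  have hψl : ψ.left ((lift (a ^ (n * l)) (𝟙 T)).left o) = ((𝟙 G : G ⟶ G) ^ (n * (l - k))).left x := by
    rw [← hap, hψ, ← hak]
    refine congrArg (fun h : T ⟶ G => h.left o) ?_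
    rw [mul_inv_eq_iff_eq_mul, ← pow_add, ← Nat.mul_add, Nat.sub_add_cancel hlt.le]
  refine ⟨n * (l - k), Nat.mul_pos hn (Nat.sub_pos_of_lt hlt), ?_⟩
  rw [mem_iff, hnat]
  have hsub' : ψ.left '' C ⊆ G.hom ⁻¹' {G.hom x} := by
    rintro _ ⟨c, -, rfl⟩
    show G.hom (ψ.left c) = G.hom x
    rw [← Scheme.Hom.comp_apply, Over.w ψ, ← hao]
    show (G ⊗ T).hom c = G.hom (a.left o)
    rw [← Over.w (snd G T), Scheme.Hom.comp_apply, Subsingleton.elim (α := PrimeSpectrum Ω) ((snd G T).left c) o,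
      ← Scheme.Hom.comp_apply, Over.w a]
  refine (hCconn.image _ ψ.left.continuous.continuousOn).subset_connectedComponentIn
    ⟨_, ⟨⟨_, hsec k⟩, mem_irreducibleComponent, rfl⟩, hψk⟩ hsub' ⟨_, ⟨⟨_, hsec l⟩, ?_, rfl⟩, hψl⟩
  exact (show irreducibleComponent (⟨_, hsec k⟩ : WΩ.toScheme) = irreducibleComponent ⟨_, hsec l⟩ from
    congrArg Subtype.val hC) ▸ mem_irreducibleComponent

/-- The points with a power in the neutral components form an open set. -/
theorem isOpen_tau : IsOpen {x : G.left | ∃ n : ℕ, 0 < n ∧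
    ((𝟙 G : G ⟶ G) ^ n).left x ∈ SGA3x.neutralSet G} := by
  haveI : IsLocallyNoetherian G.left := LocallyOfFiniteType.isLocallyNoetherian G.hom
  rw [← isClosed_compl_iff]
  refine isClosed_of_specializes _ ?_ ?_
  · rintro x y hxy hx ⟨n, hn, hy⟩
    exact hx (exists_pow_mem_of_specializes G hxy hn hy)
  · intro x hx
    obtain ⟨n, hn, hnx⟩ : ∃ n : ℕ, 0 < n ∧ ((𝟙 G : G ⟶ G) ^ n).left x ∈ SGA3x.neutralSet G := not_not.1 hx
    obtain ⟨Q, hQ, hxQ, hsub⟩ := exists_nhd_subset G hnx
    refine ⟨((𝟙 G : G ⟶ G) ^ n).left ⁻¹' Q, hQ.preimage ((𝟙 G : G ⟶ G) ^ n).left.continuous, hxQ, ?_⟩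
    intro y hy hxy hyF
    exact hyF ⟨n, hn, hsub _ (hxy.map ((𝟙 G : G ⟶ G) ^ n).left.continuous) hy⟩

end Groth.Agent.GrpNeutral20
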