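import Groth.Agent.Lib.GrpNeutral20.TauOpen
import Groth.Agent.Lib.H12.Specialization

/-!
# Power maps that are open reflect the neutral components along specializations
-/

set_option autoImplicit false
set_option linter.style.haveILetI false
set_option backward.isDefEq.respectTransparency false
set_option backward.isDefEq.respectTransparency.types false

universe u

open CategoryTheory Limits MonoidalCategory CartesianMonoidalCategory AlgebraicGeometry Topology
open scoped MonObj

namespace Groth.Agent.GrpNeutral20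

/-- The powers of a point of the neutral components lie in them. -/
theorem pow_mem_neutral {S : Scheme.{u}} (G : Over S) [GrpObj G] {b : G.left} (hb : b ∈ SGA3x.neutralSet G)
    (k : ℕ) : ((𝟙 G : G ⟶ G) ^ k).left b ∈ SGA3x.neutralSet G := by
  induction k with
  | zero => rw [pow_zero, Hom.one_def, hap]; exact unit_mem G _
  | succ k ih =>
    rw [pow_succ, Hom.mul_def, hap]
    refine mul_mem G _ ?_ ?_
    · rw [← hap, lift_fst]; exact ih
    · rw [← hap, lift_snd]; exact hb

variable {S : Scheme.{u}} [IsLocallyNoetherian S] (G : Over S) [GrpObj G] [IsCommMonObj G]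
  [LocallyOfFiniteType G.hom] {n : ℕ} (hn : IsOpenMap ((𝟙 G : G ⟶ G) ^ n).left)

include hn in
/-- An open power map maps the neutral components onto themselves. -/
theorem exists_pow_eq {y : G.left} (hy : y ∈ SGA3x.neutralSet G) : ∃ z ∈ SGA3x.neutralSet G,
    G.hom z = G.hom y ∧ ((𝟙 G : G ⟶ G) ^ n).left z = y := by
  let t := G.hom y
  let pw : G ⟶ G := (𝟙 G : G ⟶ G) ^ n
  let r := S.fromSpecResidueField t
  haveI : LocallyOfFiniteType (Red.bc r G).hom := inferInstanceAs (LocallyOfFiniteType (pullback.snd G.hom r))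
  let q : (Red.bc r G).left ⟶ G.left := pullback.fst G.hom r
  haveI : IsLocallyNoetherian (Spec (S.residueField t)) := inferInstance
  haveI : Subsingleton ↥(Spec (S.residueField t)) := inferInstanceAs (Subsingleton (PrimeSpectrum _))
  obtain ⟨V, ⟨v, hv⟩, ho⟩ := exists_open_isOpen (Red.bc r G)
  have hN : IsOpen (q ⁻¹' SGA3x.neutralSet G) := by
    have e : q ⁻¹' SGA3x.neutralSet G = SGA3x.neutralSet (Red.bc r G) ∩ (Red.bc r G).hom ⁻¹' (V : Set _) := by
      rw [neutralSet_bc]
      ext z
      exact ⟨fun h => ⟨h, show (Red.bc r G).hom z ∈ V from Subsingleton.elim v ((Red.bc r G).hom z) ▸ hv⟩, fun h => h.1⟩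
    exact e ▸ ho
  haveI : IsPreimmersion q := inferInstanceAs (IsPreimmersion (pullback.fst G.hom r))
  obtain ⟨Q, hQ, hQN⟩ := q.isEmbedding.isInducing.isOpen_iff.1 hN
  have hQt : ∀ w, G.hom w = t → (w ∈ Q ↔ w ∈ SGA3x.neutralSet G) := by
    intro w hw
    obtain ⟨w', hw'⟩ : w ∈ Set.range q := by
      show w ∈ Set.range (pullback.fst G.hom r)
      rw [Scheme.Pullback.range_fst, Scheme.range_fromSpecResidueField]
      exact hw
    rw [← hw']
    exact Set.ext_iff.1 hQN w'
  let W : G.left.Opens := ⟨Q, hQ⟩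
  let W0 : Over S := Over.mk (W.ι ≫ G.hom)
  let i : W0 ⟶ G := Over.homMk W.ι rfl
  let O : G.left.Opens := ⟨pw.left '' Q, hn Q hQ⟩
  have hone : ∀ w : G.left, pw.left (η[G].left (G.hom w)) = η[G].left (G.hom w) := fun w => by
    have e : (1 : G ⟶ G) ≫ pw = 1 := by rw [MonObj.comp_pow, Category.comp_id, one_pow]
    have h := congrArg (fun h : G ⟶ G => h.left w) e
    simp only [Hom.one_def, hap] at h
    exact h
  obtain ⟨z, hz1, hz2, hz3, -⟩ := exists_div G (lft_fibres G) hy O
    ⟨η[G].left t, (hQt _ (unit_over G t)).2 (unit_mem G t), hone y⟩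
  have hrange : Set.range (i ≫ pw).left = (O : Set G.left) := by
    rw [Over.comp_left, Scheme.Hom.comp_base, TopCat.coe_comp, Set.range_comp]
    show pw.left '' Set.range W.ι = _
    rw [Scheme.Opens.range_ι]; rfl
  obtain ⟨u, hu⟩ : z ∈ Set.range ((i ≫ pw) ⊗ₘ (i ≫ pw)).left := by
    rw [Over.tensorHom_left]
    refine (Scheme.Pullback.range_map _ _ _ _ (i ≫ pw).left (i ≫ pw).left (𝟙 _) _ _).ge ⟨?_, ?_⟩
    · rw [Set.mem_preimage, hrange]; exact hz1
    · rw [Set.mem_preimage, hrange]; exact hz2
  let w := (i ⊗ₘ i).left u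
  let dv : G ⊗ G ⟶ G := (𝟙 G ⊗ₘ ι[G]) ≫ μ[G]
  have hdv : dv = fst G G * (snd G G)⁻¹ := by
    rw [Hom.inv_def, Hom.mul_def]; simp only [dv]; congr 1
  have hcomm : (pw ⊗ₘ pw) ≫ dv = dv ≫ pw := by
    have e : ∀ {A : Over S} (a : A ⟶ G), a ≫ pw = a ^ n := fun {A} a => by
      rw [MonObj.comp_pow, Category.comp_id]
    rw [hdv, MonObj.comp_mul, GrpObj.comp_inv, tensorHom_fst, tensorHom_snd, e, e, e, mul_pow, inv_pow]
  have hzw : (pw ⊗ₘ pw).left w = z := by
    rw [← hap, tensorHom_comp_tensorHom]; exact hu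
  have hy' : pw.left (dv.left w) = y := by
    rw [← hap, ← hcomm, hap, hzw]; exact hz3
  have hover : G.hom (dv.left w) = t := by
    rw [← show G.hom (pw.left (dv.left w)) = G.hom (dv.left w) by rw [← Scheme.Hom.comp_apply, Over.w pw], hy']
  refine ⟨dv.left w, ?_, hover, hy'⟩
  have hcomp : ∀ p : G ⊗ G ⟶ G, G.hom (p.left w) = t := fun p => by
    exact ((congrArg (fun h => h w) ((Over.w p).trans (Over.w dv).symm)).trans hover)
  have h1 : (fst G G).left w ∈ SGA3x.neutralSet G := by
    refine (hQt _ (hcomp _)).1 ?_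
    rw [show (fst G G).left w = i.left ((fst W0 W0).left u) by rw [← hap, tensorHom_fst, hap]]
    exact Subtype.prop _
  have h2 : (snd G G).left w ∈ SGA3x.neutralSet G := by
    refine (hQt _ (hcomp _)).1 ?_
    rw [show (snd G G).left w = i.left ((snd W0 W0).left u) by rw [← hap, tensorHom_snd, hap]]
    exact Subtype.prop _
  simp only [dv, hap]
  refine mul_mem G _ ?_ ?_
  · rw [← hap, tensorHom_fst, Category.comp_id]; exact h1
  · rw [← hap, tensorHom_snd, hap]; exact inv_mem G h2

include hn in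
/-- An open power map reflects the neutral components along specializations. -/
theorem mem_of_specializes {x y : G.left} (hxy : x ⤳ y) (hy : y ∈ SGA3x.neutralSet G)
    (hnx : ((𝟙 G : G ⟶ G) ^ n).left x ∈ SGA3x.neutralSet G) : x ∈ SGA3x.neutralSet G := by
  classical
  let pw : G ⟶ G := (𝟙 G : G ⟶ G) ^ n
  let s := G.hom x
  let t := G.hom y
  have hpwhom : ∀ z, G.hom (pw.left z) = G.hom z := fun z => by rw [← Scheme.Hom.comp_apply, Over.w pw]
  let comp : G.left → Set G.left := fun z => connectedComponentIn (G.hom ⁻¹' {s}) z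
  let C : Set (Set G.left) :=
    {K | ∃ a b, a ⤳ b ∧ G.hom a = s ∧ b ∈ SGA3x.neutralSet G ∧ G.hom b = t ∧ K = comp a}
  have hconst : ∀ {a a' : G.left}, a' ∈ comp a → comp a = comp a' := fun h => connectedComponentIn_eq h
  -- finiteness
  have hfin : C.Finite := by
    obtain ⟨U, hU, htU, -⟩ := exists_isAffineOpen_mem_and_subset (X := S) (x := t) (U := ⊤) trivial
    haveI : IsAffine U.toScheme := hU
    haveI : LocallyOfFiniteType (Red.bc U.ι G).hom := inferInstanceAs (LocallyOfFiniteType (pullback.snd G.hom U.ι))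
    obtain ⟨W₀, hW₀, hsub⟩ := exists_isCompact_open (Red.bc U.ι G) (lft_fibres _)
    let r : (Red.bc U.ι G).left ⟶ G.left := pullback.fst G.hom U.ι
    haveI : IsOpenImmersion r := inferInstanceAs (IsOpenImmersion (pullback.fst G.hom U.ι))
    let W : G.left.Opens := r ''ᵁ W₀
    haveI : IsLocallyNoetherian G.left := LocallyOfFiniteType.isLocallyNoetherian G.hom
    haveI : CompactSpace W.toScheme := isCompact_iff_compactSpace.1 (hW₀.image r.continuous)
    haveI : IsLocallyNoetherian W.toScheme := LocallyOfFiniteType.isLocallyNoetherian W.ι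
    haveI : AlgebraicGeometry.IsNoetherian W.toScheme := {}
    let Fs : Set W.toScheme := {z | G.hom (W.ι z) = s}
    haveI : TopologicalSpace.NoetherianSpace Fs := TopologicalSpace.NoetherianSpace.set _
    haveI := (TopologicalSpace.NoetherianSpace.finite_irreducibleComponents (α := Fs)).to_subtype
    let Φ : irreducibleComponents Fs → Set G.left := fun Z => comp (W.ι (Z.2.1.nonempty.some : W.toScheme))
    refine (Set.finite_range Φ).subset ?_
    rintro _ ⟨a, b, hab, ha, hb, hbt, rfl⟩
    have hbW : b ∈ W := by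
      obtain ⟨z, hz, -⟩ := Scheme.Pullback.exists_preimage_pullback (f := G.hom) (g := U.ι) b ⟨t, htU⟩ hbt
      refine ⟨z, hsub ?_, hz⟩
      rw [neutralSet_bc]
      show r z ∈ SGA3x.neutralSet G
      rwa [show r z = b from hz]
    let a' : Fs := ⟨⟨a, hab.mem_open W.2 hbW⟩, ha⟩
    let Z : irreducibleComponents Fs := ⟨irreducibleComponent a', irreducibleComponent_mem_irreducibleComponents a'⟩
    refine ⟨Z, ?_⟩
    let emb : Fs → G.left := fun z => W.ι z.1
    have hemb : Continuous emb := W.ι.continuous.comp continuous_subtype_val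
    refine (hconst ?_)
    refine (Z.2.1.isConnected.isPreconnected.image _ hemb.continuousOn).subset_connectedComponentIn
      ⟨_, Z.2.1.nonempty.some_mem, rfl⟩ ?_ ⟨a', mem_irreducibleComponent, rfl⟩
    rintro _ ⟨z, -, rfl⟩
    exact z.2
  haveI := hfin.to_subtype
  -- the power map on the components
  have hmap : ∀ {a a' : G.left}, G.hom a = s → a' ∈ comp a → pw.left a' ∈ comp (pw.left a) := fun {a a'} ha h =>
    (isPreconnected_connectedComponentIn.image _ pw.left.continuous.continuousOn).subset_connectedComponentIn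
      ⟨a, mem_connectedComponentIn ha, rfl⟩
      (by rintro _ ⟨z, hz, rfl⟩; exact (hpwhom z).trans (connectedComponentIn_subset (G.hom ⁻¹' {s}) _ hz))
      ⟨a', h, rfl⟩
  choose A B hAB hA hB hBt hK using fun K : C => K.2
  let g : C → C := fun K => ⟨comp (pw.left (A K)), pw.left (A K), pw.left (B K),
    (hAB K).map pw.left.continuous, (hpwhom _).trans (hA K), pow_mem_neutral G (hB K) n,
    (hpwhom _).trans (hBt K), rfl⟩
  have hg : ∀ {K : C} {a : G.left}, (K : Set G.left) = comp a → G.hom a = s →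
      (g K : Set G.left) = comp (pw.left a) := fun {K a} e ha =>
    (hconst (hmap ha (e ▸ (hK K).symm ▸ mem_connectedComponentIn (hA K)))).symm
  have hgs : Function.Surjective g := by
    rintro ⟨_, a, b, hab, ha, hb, hbt, rfl⟩
    obtain ⟨z, hz, hzb, hnz⟩ := exists_pow_eq G hn hb
    obtain ⟨a₁, ha₁, ha₁'⟩ := H12.generalizingMap_of_isOpenMap pw.left hn (show a ⤳ pw.left z by rw [show pw.left z = b from hnz]; exact hab)
    have ha₁s : G.hom a₁ = s := by rw [← hpwhom, ha₁']; exact ha
    refine ⟨⟨comp a₁, a₁, z, ha₁, ha₁s, hz, hzb.trans hbt, rfl⟩, Subtype.ext ?_⟩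
    rw [hg rfl ha₁s, ha₁']
  have hgi : Function.Injective g := Finite.injective_iff_surjective.2 hgs
  let Kx : C := ⟨comp x, x, y, hxy, rfl, hy, rfl, rfl⟩
  let Ke : C := ⟨comp (η[G].left s), η[G].left s, η[G].left t, (hxy.map G.hom.continuous).map η[G].left.continuous,
    unit_over G s, unit_mem G t, unit_over G t, rfl⟩
  have hpe : pw.left (η[G].left s) = η[G].left s := by
    have e : (1 : G ⟶ G) ≫ pw = 1 := by rw [MonObj.comp_pow, Category.comp_id, one_pow]
    have h := congrArg (fun h : G ⟶ G => h.left x) e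
    simp only [Hom.one_def, hap] at h
    exact h
  have hcx : comp (pw.left x) = comp (η[G].left s) := by
    refine (hconst ?_).symm
    have := (mem_iff G _).1 hnx
    rwa [hpwhom] at this
  have : Kx = Ke := hgi (Subtype.ext (by rw [hg (K := Kx) rfl rfl, hg (K := Ke) rfl (unit_over G s), hpe, hcx]))
  rw [mem_iff]
  show x ∈ comp (η[G].left s)
  rw [← show comp x = comp (η[G].left s) from congrArg Subtype.val this]
  exact mem_connectedComponentIn rfl

end Groth.Agent.GrpNeutral20
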